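import Cfsg.Agent.R08.ModTriv
import Cfsg.Agent.Mrg.Omega.FrameI
import Cfsg.Agent.R08.ModLab
import Cfsg.Agent.LargeExtra.Local
import Cfsg.Agent.R08.FrameAGroup
import Cfsg.Agent.R08.FrameAWeights
import Cfsg.Agent.Mrg.Omega.EH3.SitIrr
import Cfsg.Agent.R08.FrameA
import Cfsg.Agent.R08.ModFrame
import Cfsg.Agent.LargeExtra.Nine.ToCent
import Cfsg.Agent.MinSimple.Basic

-- merged: Cfsg.Agent.Omega.EH3.UFour.Mod
section

/-!
# EH3, row U4(3): 2-groups of (semi)linear maps normalised by the stabiliser of an `R`-vector (helper586)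

`W = F4 ^ 6` with the standard group `H` (order `3 |U4(3)|`), `u2 = (1,1,0,0,0,0)`, `J = H_{u2}`.

* `dich` : a `J`-invariant additive subgroup lies in `⟨e 0, e 1⟩` or contains `⟨e 2, ..., e 5⟩`;
* `main` : a 2-group of additive maps, each linear isometric or semilinear, preserving `R`, fixing `u2`, normalised by
  `J`, consists of `1` and the transvection `τ` with centre `u2`.
-/

set_option autoImplicit false

namespace Cfsg.Agent.Omega.EH3.UFour.Mod

open Cfsg.Agent.SporRec.GF4 Cfsg.Agent.R08.ModVec Cfsg.Agent.R08.ModMono Cfsg.Agent.R08.Frame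
open Cfsg.Agent.R08.ModOrb Cfsg.Agent.R08.ModIso Cfsg.Agent.R08.ModTau Cfsg.Agent.R08.ModSig
open Cfsg.Agent.R08.ModTriv

/-! ### fixed points modulo an invariant subgroup -/

theorem exists_fix_mod {V : Type*} [AddCommGroup V] [Finite V] (h2 : ∀ v : V, v + v = 0)
    {T : Type*} [Group T] [DistribMulAction T V] (hT : IsPGroup 2 T) {U : AddSubgroup V}
    (hU : ∀ g : T, ∀ v ∈ U, g • v ∈ U) {w : V} (hw : w ∉ U) : ∃ v, v ∉ U ∧ ∀ g : T, g • v + v ∈ U := by
  classical
  let act : MulAction T (V ⧸ U) := {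
    smul := fun g => QuotientAddGroup.map U U (DistribSMul.toAddMonoidHom V g) (fun v hv => hU g v hv)
    one_smul := by rintro ⟨v⟩; exact congrArg (QuotientAddGroup.mk) (one_smul T v)
    mul_smul := by rintro g h ⟨v⟩; exact congrArg (QuotientAddGroup.mk) (mul_smul g h v) }
  have hd : 2 ∣ Nat.card (V ⧸ U) := by
    have h3 : addOrderOf (QuotientAddGroup.mk w : V ⧸ U) = 2 := by
      apply addOrderOf_eq_prime
      · rw [two_nsmul, ← QuotientAddGroup.mk_add, h2, QuotientAddGroup.mk_zero]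
      · rw [Ne, QuotientAddGroup.eq_zero_iff]; exact hw
    rw [← h3]; exact addOrderOf_dvd_natCard _
  have h0 : (0 : V ⧸ U) ∈ MulAction.fixedPoints T (V ⧸ U) := by
    intro g
    exact map_zero (QuotientAddGroup.map U U (DistribSMul.toAddMonoidHom V g) (fun v hv => hU g v hv))
  have : Fact (Nat.Prime 2) := ⟨Nat.prime_two⟩
  obtain ⟨b, hb, hb0⟩ := hT.exists_fixed_point_of_prime_dvd_card_of_fixed_point (V ⧸ U) hd h0
  obtain ⟨v, rfl⟩ := QuotientAddGroup.mk_surjective b
  refine ⟨v, fun h => hb0 ((QuotientAddGroup.eq_zero_iff v).2 h).symm, fun g => ?_⟩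
  have h4 : (QuotientAddGroup.mk (g • v) : V ⧸ U) = QuotientAddGroup.mk v := hb g
  rw [← QuotientAddGroup.eq_zero_iff, QuotientAddGroup.mk_add, h4, ← QuotientAddGroup.mk_add, h2,
    QuotientAddGroup.mk_zero]

/-! ### invariant subgroups -/

variable {H : Subgroup SL}

/-- invariance under the stabiliser of `u2` -/
def Inv (H : Subgroup SL) (U : AddSubgroup W) : Prop := ∀ A ∈ H, A • u2 = u2 → ∀ v ∈ U, A • v ∈ U

theorem u2_zero {l : Fin 6} (h0 : l ≠ 0) (h1 : l ≠ 1) : u2 l = 0 := by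
  revert h0 h1; fin_cases l <;> decide

/-- diagonal elements -/
theorem exists_diag2 (h : LinFrame F4 H) {i j : Fin 6} (hij : i ≠ j) (hi : i ≠ 0 ∧ i ≠ 1) (hj : j ≠ 0 ∧ j ≠ 1) :
    ∃ A ∈ H, A • u2 = u2 ∧ ∀ (v : W) (l : Fin 6),
      (A • v) l = (if l = i then F4.w else if l = j then F4.v else F4.o) * v l := by
  classical
  obtain ⟨A, hA, hAv⟩ := mono' h (s := 1) (d := fun l => if l = i then F4.w else if l = j then F4.v else F4.o)
    (Equiv.Perm.sign_one) (by
      intro l
      split_ifs <;> decide) (by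
      have : (fun l : Fin 6 => if l = i then F4.w else if l = j then F4.v else F4.o) =
          fun l => (if l = i then F4.w else F4.o) * (if l = j then F4.v else F4.o) := by
        funext l
        by_cases h1 : l = i
        · subst h1
          rw [if_pos rfl, if_pos rfl, if_neg hij]; rfl
        · rw [if_neg h1, if_neg h1]
          split_ifs <;> rfl
      rw [this, Finset.prod_mul_distrib]
      have h1 : ∏ l : Fin 6, (if l = i then F4.w else F4.o) = F4.w := by
        have := Finset.prod_ite_eq' Finset.univ i (fun _ => F4.w)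
        rw [if_pos (Finset.mem_univ i)] at this
        exact this
      have h2 : ∏ l : Fin 6, (if l = j then F4.v else F4.o) = F4.v := by
        have := Finset.prod_ite_eq' Finset.univ j (fun _ => F4.v)
        rw [if_pos (Finset.mem_univ j)] at this
        exact this
      rw [h1, h2]
      rfl)
  refine ⟨A, hA, ?_, fun v l => hAv v l⟩
  funext l
  rw [hAv]
  show (if l = i then F4.w else if l = j then F4.v else F4.o) * u2 l = u2 l
  by_cases h1 : l = i
  · subst h1
    rw [u2_zero hi.1 hi.2, mul_zero]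
  · rw [if_neg h1]
    by_cases h2 : l = j
    · subst h2
      rw [u2_zero hj.1 hj.2, mul_zero]
    · rw [if_neg h2]
      exact one_mul _

/-- 3-cycles -/
theorem exists_cyc (h : LinFrame F4 H) {i j k : Fin 6} (hij : i ≠ j) (hik : i ≠ k) (hjk : j ≠ k)
    (hi : i ≠ 0 ∧ i ≠ 1) (hj : j ≠ 0 ∧ j ≠ 1) (hk : k ≠ 0 ∧ k ≠ 1) :
    ∃ A ∈ H, A • u2 = u2 ∧ ∀ c : F4, A • (c • e i) = c • e k := by
  classical
  obtain ⟨A, hA, hAv⟩ := mono' h (s := Equiv.swap i j * Equiv.swap i k) (d := fun _ => 1)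
    (by rw [Equiv.Perm.sign_mul, Equiv.Perm.sign_swap hij, Equiv.Perm.sign_swap hik]; rfl)
    (fun _ => one_ne_zero) (by simp)
  have hs : (Equiv.swap i j * Equiv.swap i k)⁻¹ = Equiv.swap i k * Equiv.swap i j := by
    rw [mul_inv_rev, Equiv.swap_inv, Equiv.swap_inv]
  refine ⟨A, hA, ?_, fun c => ?_⟩
  · funext l
    rw [hAv, one_mul, hs, Equiv.Perm.mul_apply]
    by_cases h1 : l = i
    · subst h1
      rw [Equiv.swap_apply_left, Equiv.swap_apply_of_ne_of_ne hij.symm hjk, u2_zero hj.1 hj.2, u2_zero hi.1 hi.2]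
    · by_cases h2 : l = j
      · subst h2
        rw [Equiv.swap_apply_right, Equiv.swap_apply_left, u2_zero hk.1 hk.2, u2_zero hj.1 hj.2]
      · rw [Equiv.swap_apply_of_ne_of_ne h1 h2]
        by_cases h3 : l = k
        · subst h3
          rw [Equiv.swap_apply_right, u2_zero hk.1 hk.2, u2_zero hi.1 hi.2]
        · rw [Equiv.swap_apply_of_ne_of_ne h1 h3]
  · funext l
    rw [hAv, one_mul, hs, Equiv.Perm.mul_apply, Pi.smul_apply, Pi.smul_apply, e_apply, e_apply]
    congr 1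
    have : Equiv.swap i k (Equiv.swap i j l) = i ↔ l = k := by
      rw [← Equiv.eq_symm_apply, Equiv.symm_swap, Equiv.swap_apply_left, ← Equiv.eq_symm_apply, Equiv.symm_swap,
        Equiv.swap_apply_of_ne_of_ne hik.symm hjk.symm]
    simp only [this]

theorem F4_span : ∀ a c : F4, a ≠ 0 → c = 0 ∨ c = a ∨ c = .w * a ∨ c = a + .w * a := by decide

/-- an invariant subgroup with a vector with nonzero coordinate `i ≥ 2` contains `F4 e i` -/
theorem line_mem (h : LinFrame F4 H) {U : AddSubgroup W} (hU : Inv H U) {i j k : Fin 6} (hij : i ≠ j) (hik : i ≠ k)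
    (hjk : j ≠ k) (hi : i ≠ 0 ∧ i ≠ 1) (hj : j ≠ 0 ∧ j ≠ 1) (hk : k ≠ 0 ∧ k ≠ 1) {v : W} (hv : v ∈ U)
    (hvi : v i ≠ 0) (c : F4) : c • e i ∈ U := by
  obtain ⟨A, hA, hA2, hAv⟩ := exists_diag2 h hij hi hj
  obtain ⟨B, hB, hB2, hBv⟩ := exists_diag2 h hik hi hk
  have hy : v + A • v ∈ U := U.add_mem hv (hU A hA hA2 v hv)
  have hy' : (v + A • v) + B • (v + A • v) ∈ U := U.add_mem hy (hU B hB hB2 _ hy)
  have k1 : ∀ x : F4, x + F4.o * x = 0 := by decide
  have k2 : ∀ x : F4, x + F4.w * x = F4.v * x := by decide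
  have e1 : (v + A • v) + B • (v + A • v) = (F4.v * (F4.v * v i)) • e i := by
    funext l
    rw [Pi.add_apply, hBv, Pi.add_apply, hAv, Pi.smul_apply, e_apply, smul_eq_mul]
    by_cases h1 : l = i
    · subst h1
      rw [if_pos rfl, if_pos rfl, if_pos rfl, mul_one, k2, k2]
    · rw [if_neg h1, if_neg h1, if_neg h1, mul_zero]
      by_cases h2 : l = j
      · subst h2
        rw [if_pos rfl, if_neg hjk, k1]
      · rw [if_neg h2, k1]
        rw [mul_zero, add_zero]
  rw [e1] at hy'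
  generalize ha : F4.v * (F4.v * v i) = a at hy'
  have ha0 : a ≠ 0 := by
    rw [← ha]
    exact mul_ne_zero (by decide) (mul_ne_zero (by decide) hvi)
  have hwa : (F4.w * a) • e i ∈ U := by
    have h3 := hU A hA hA2 _ hy'
    have h4 : A • (a • e i) = (F4.w * a) • e i := by
      funext l
      rw [hAv, Pi.smul_apply, Pi.smul_apply, e_apply, smul_eq_mul, smul_eq_mul]
      by_cases h1 : l = i
      · rw [if_pos h1, if_pos h1, mul_one, mul_one]
      · rw [if_neg h1, if_neg h1, mul_zero, mul_zero, mul_zero]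
    rwa [h4] at h3
  rcases F4_span a c ha0 with h3 | h3 | h3 | h3
  · rw [h3, zero_smul]; exact U.zero_mem
  · rw [h3]; exact hy'
  · rw [h3]; exact hwa
  · rw [h3, add_smul]; exact U.add_mem hy' hwa

/-- **a `J`-invariant additive subgroup lies in `⟨e 0, e 1⟩` or contains `⟨e 2, ..., e 5⟩`** -/
theorem dich (h : LinFrame F4 H) {U : AddSubgroup W} (hU : Inv H U) :
    (∀ v ∈ U, ∀ i : Fin 6, i ≠ 0 → i ≠ 1 → v i = 0) ∨ (∀ v : W, v 0 = 0 → v 1 = 0 → v ∈ U) := by
  by_cases hcon : ∀ v ∈ U, ∀ i : Fin 6, i ≠ 0 → i ≠ 1 → v i = 0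
  · exact Or.inl hcon
  right
  push Not at hcon
  obtain ⟨v, hv, i, hi0, hi1, hvi⟩ := hcon
  have hex : ∀ i : Fin 6, i ≠ 0 → i ≠ 1 → ∃ j k : Fin 6, i ≠ j ∧ i ≠ k ∧ j ≠ k ∧ (j ≠ 0 ∧ j ≠ 1) ∧ (k ≠ 0 ∧ k ≠ 1) := by
    decide
  have hline : ∀ l : Fin 6, l ≠ 0 → l ≠ 1 → ∀ c : F4, c • e l ∈ U := by
    intro l hl0 hl1 c
    by_cases hil : i = l
    · subst hil
      obtain ⟨j, k, h1, h2, h3, h4, h5⟩ := hex i hi0 hi1
      exact line_mem h hU h1 h2 h3 ⟨hi0, hi1⟩ h4 h5 hv hvi c
    · have hex2 : ∀ i l : Fin 6, i ≠ 0 → i ≠ 1 → l ≠ 0 → l ≠ 1 → i ≠ l → ∃ j : Fin 6, i ≠ j ∧ j ≠ l ∧ (j ≠ 0 ∧ j ≠ 1) := by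
        decide
      obtain ⟨j, h1, h2, h3⟩ := hex2 i l hi0 hi1 hl0 hl1 hil
      have h4 := line_mem h hU h1 hil h2 ⟨hi0, hi1⟩ h3 ⟨hl0, hl1⟩ hv hvi c
      obtain ⟨A, hA, hA2, hAc⟩ := exists_cyc h h1 hil h2 ⟨hi0, hi1⟩ h3 ⟨hl0, hl1⟩
      have h5 := hU A hA hA2 _ h4
      rwa [hAc] at h5
  intro w hw0 hw1
  rw [eq_sum w]
  refine U.sum_mem fun l _ => ?_
  by_cases hl0 : l = 0
  · subst hl0; rw [hw0, zero_smul]; exact U.zero_mem
  · by_cases hl1 : l = 1
    · subst hl1; rw [hw1, zero_smul]; exact U.zero_mem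
    · exact hline l hl0 hl1 _

/-! ### the 2-group -/

/-- the hypotheses on the 2-group -/
structure Oh (H : Subgroup SL) (T : Type*) [Group T] [DistribMulAction T W] : Prop where
  two : IsPGroup 2 T
  fix : ∀ g : T, g • u2 = u2
  norm : ∀ A ∈ H, A • u2 = u2 → ∀ g : T, ∃ g' : T, ∀ v : W, g • (A • v) = A • (g' • v)
  kind : ∀ g : T, ((∀ (a : F4) (v : W), g • (a • v) = a • (g • v)) ∧
      ∀ u v : W, herm (g • u) (g • v) = herm u v) ∨ (∀ (a : F4) (v : W), g • (a • v) = cj a • (g • v))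
  isR : ∀ (g : T) (v : W), IsR v → IsR (g • v)

variable {T : Type*} [Group T] [DistribMulAction T W]

/-- invariant subgroups of `⟨e 0, e 1⟩` -/
def Good (H : Subgroup SL) (T : Type*) [Group T] [DistribMulAction T W] (U : AddSubgroup W) : Prop :=
  (∀ v ∈ U, ∀ i : Fin 6, i ≠ 0 → i ≠ 1 → v i = 0) ∧ Inv H U ∧ ∀ g : T, ∀ v ∈ U, g • v ∈ U

theorem Oh.coord (O : Oh H T) (h : LinFrame F4 H) (g : T) {v : W} (h0 : v 0 = 0) (h1 : v 1 = 0)
    {i : Fin 6} (hi0 : i ≠ 0) (hi1 : i ≠ 1) : (g • v) i = v i := by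
  classical
  have hbot : Good H T ⊥ := by
    refine ⟨?_, ?_, ?_⟩
    · intro v hv i _ _
      rw [AddSubgroup.mem_bot.1 hv]; rfl
    · intro A _ _ v hv
      rw [AddSubgroup.mem_bot.1 hv, smul_zero]; exact AddSubgroup.zero_mem _
    · intro g v hv
      rw [AddSubgroup.mem_bot.1 hv, smul_zero]; exact AddSubgroup.zero_mem _
  obtain ⟨U, hU, hmax⟩ := (Set.toFinite {U : AddSubgroup W | Good H T U}).exists_maximal ⟨⊥, hbot⟩
  obtain ⟨hUP, hUJ, hUT⟩ := hU
  have hne : e 2 ∉ U := by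
    intro h2
    have := hUP _ h2 2 (by decide) (by decide)
    rw [e_apply] at this
    exact absurd this (by decide)
  obtain ⟨w, hwU, hw⟩ := exists_fix_mod W_add_self O.two hUT hne
  let X : AddSubgroup W :=
    { carrier := {v | ∀ g : T, g • v + v ∈ U}
      zero_mem' := fun g => by rw [smul_zero, add_zero]; exact U.zero_mem
      add_mem' := by
        intro x y hx hy g
        rw [smul_add, add_add_add_comm]
        exact U.add_mem (hx g) (hy g)
      neg_mem' := by
        intro x hx g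
        show g • (-x) + -x ∈ U
        rw [smul_neg, ← neg_add]
        exact U.neg_mem (hx g) }
  have hX : ∀ {v : W}, v ∈ X ↔ ∀ g : T, g • v + v ∈ U := Iff.rfl
  have hXJ : Inv H X := by
    intro A hA hA2 v hv g
    obtain ⟨g', hgg⟩ := O.norm A hA hA2 g
    rw [hgg, ← smul_add]
    exact hUJ A hA hA2 _ (hv g')
  have hXT : ∀ g : T, ∀ v ∈ X, g • v ∈ X := by
    intro g₀ v hv g
    have e1 : g • g₀ • v + g₀ • v = (g • (g₀ • v + v) + (g₀ • v + v)) + (g • v + v) := by
      have h3 := W_add_self (g • v)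
      have h4 := W_add_self v
      rw [smul_add]
      have e2 : g • g₀ • v + g • v + (g₀ • v + v) + (g • v + v) =
          g • g₀ • v + g₀ • v + (g • v + g • v) + (v + v) := by abel
      rw [e2, h3, h4, add_zero, add_zero]
    rw [e1]
    exact U.add_mem (U.add_mem (hUT g _ (hv g₀)) (hv g₀)) (hv g)
  have hUX : U ≤ X := fun v hv g => U.add_mem (hUT g v hv) hv
  rcases dich h hXJ with h2 | h2
  · exfalso
    have hXU : X ≤ U := hmax ⟨h2, hXJ, hXT⟩ hUX
    exact hwU (hXU (hX.2 hw))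
  · have h3 := hUP _ (hX.1 (h2 v h0 h1) g) i hi0 hi1
    rw [Pi.add_apply] at h3
    have h4 : (g • v) i + v i + v i = 0 + v i := by rw [h3]
    rwa [add_assoc, add_self, add_zero, zero_add] at h4

/-- **the theorem** -/
theorem Oh.main (O : Oh H T) (h : Std H) (t : T) :
    (∀ v : W, t • v = v) ∨ (∀ v : W, t • v = tau u2 v) := by
  let g : W →+ W := DistribSMul.toAddMonoidHom W t
  have hco : ∀ {v : W}, v 0 = 0 → v 1 = 0 → ∀ {i : Fin 6}, i ≠ 0 → i ≠ 1 → g v i = v i :=
    fun h0 h1 _ hi0 hi1 => O.coord h.fr t h0 h1 hi0 hi1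
  have hlin : (∀ (a : F4) (v : W), g (a • v) = a • g v) ∧ ∀ u v, herm (g u) (g v) = herm u v := by
    rcases O.kind t with h1 | h1
    · exact h1
    · exfalso
      have h2 := hco (v := e 2) rfl rfl (i := 2) (by decide) (by decide)
      have h3 := hco (v := F4.w • e 2) rfl rfl (i := 2) (by decide) (by decide)
      have h1' : g (F4.w • e 2) = cj F4.w • g (e 2) := h1 _ _
      rw [h1', Pi.smul_apply, h2, Pi.smul_apply] at h3
      exact absurd h3 (by decide)
  have S : Sig g := ⟨map_add g, hlin.1, hlin.2, O.isR t⟩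
  -- `g` fixes `e j`, `j ≥ 2`
  have hsupp : ∀ {j : Fin 6}, j ≠ 0 → j ≠ 1 → ∀ l : Fin 6, l ≠ 0 → l ≠ 1 → g (e j) l = e j l := by
    intro j hj0 hj1 l hl0 hl1
    exact hco (by rw [e_apply, if_neg hj0.symm]) (by rw [e_apply, if_neg hj1.symm]) hl0 hl1
  have hpr : ∀ i j : Fin 6, i ≠ j → (i ≠ 0 ∧ i ≠ 1) → (j ≠ 0 ∧ j ≠ 1) → ∀ a : F4, a ≠ 0 →
      g (e i) 0 + a * g (e j) 0 = 0 ∧ g (e i) 1 + a * g (e j) 1 = 0 := by
    intro i j hij hi hj a ha
    have h1 : IsR (g (pr2 i j a)) := O.isR t _ (isR_pr2 hij ha)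
    have h2 : g (pr2 i j a) = g (e i) + a • g (e j) := by
      unfold pr2
      rw [map_add, hlin.1]
    rw [h2] at h1
    have hi' : (g (e i) + a • g (e j)) i ≠ 0 := by
      rw [Pi.add_apply, Pi.smul_apply, hsupp hi.1 hi.2 i hi.1 hi.2, hsupp hj.1 hj.2 i hi.1 hi.2, e_apply, e_apply,
        if_pos rfl, if_neg hij]
      rw [smul_zero, add_zero]
      exact one_ne_zero
    have hj' : (g (e i) + a • g (e j)) j ≠ 0 := by
      rw [Pi.add_apply, Pi.smul_apply, hsupp hi.1 hi.2 j hj.1 hj.2, hsupp hj.1 hj.2 j hj.1 hj.2, e_apply, e_apply,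
        if_neg hij.symm, if_pos rfl, zero_add, smul_eq_mul, mul_one]
      exact ha
    have h4 : ∃ l : Fin 6, l ≠ 0 ∧ l ≠ 1 ∧ l ≠ i ∧ l ≠ j := by
      have : ∀ i j : Fin 6, ∃ l : Fin 6, l ≠ 0 ∧ l ≠ 1 ∧ l ≠ i ∧ l ≠ j := by decide
      exact this i j
    obtain ⟨l, hl0, hl1, hli, hlj⟩ := h4
    have h5 : wt (g (e i) + a • g (e j)) = 2 := by
      rcases h1 with h1 | ⟨h1, -⟩
      · exact h1
      · exfalso
        apply wt_eq_six.1 h1 l
        rw [Pi.add_apply, Pi.smul_apply, hsupp hi.1 hi.2 l hl0 hl1, hsupp hj.1 hj.2 l hl0 hl1, e_apply, e_apply,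
          if_neg hli, if_neg hlj, smul_zero, add_zero]
    have h6 : supp (g (e i) + a • g (e j)) = {i, j} := by
      symm
      apply Finset.eq_of_subset_of_card_le
      · intro x hx
        rw [Finset.mem_insert, Finset.mem_singleton] at hx
        rw [mem_supp]
        rcases hx with rfl | rfl
        · exact hi'
        · exact hj'
      · rw [card_supp, h5, Finset.card_pair hij]
    have h7 : ∀ l : Fin 6, l ≠ i → l ≠ j → g (e i) l + a * g (e j) l = 0 := by
      intro l hl1 hl2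
      have h8 : l ∉ supp (g (e i) + a • g (e j)) := by
        rw [h6, Finset.mem_insert, Finset.mem_singleton]
        tauto
      rw [mem_supp, not_not] at h8
      exact h8
    exact ⟨h7 0 hi.1.symm hj.1.symm, h7 1 hi.2.symm hj.2.symm⟩
  have hfix : ∀ i j : Fin 6, i ≠ j → (i ≠ 0 ∧ i ≠ 1) → (j ≠ 0 ∧ j ≠ 1) → g (e j) = e j := by
    intro i j hij hi hj
    obtain ⟨h1, h2⟩ := hpr i j hij hi hj .o (by decide)
    obtain ⟨h3, h4⟩ := hpr i j hij hi hj .w (by decide)
    have key : ∀ x y : F4, x + F4.o * y = 0 → x + F4.w * y = 0 → y = 0 := by decide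
    have h5 := key _ _ h1 h3
    have h6 := key _ _ h2 h4
    funext l
    by_cases hl0 : l = 0
    · subst hl0; rw [h5, e_apply, if_neg hj.1.symm]
    · by_cases hl1 : l = 1
      · subst hl1; rw [h6, e_apply, if_neg hj.2.symm]
      · exact hsupp hj.1 hj.2 l hl0 hl1
  have e2 := hfix 3 2 (by decide) (by decide) (by decide)
  have e3 := hfix 2 3 (by decide) (by decide) (by decide)
  have e4 := hfix 5 4 (by decide) (by decide) (by decide)
  have e5 := hfix 4 5 (by decide) (by decide) (by decide)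
  have h1 : g u2 = u2 := O.fix t
  set y : W := g (e 0) with hy
  have hperp : ∀ j, j ≠ 0 → g (e j) = e j → y j = 0 := by
    intro j hj hfj
    rw [← herm_e y j, hy]
    conv_lhs => rw [← hfj]
    rw [hlin.2, herm_e, e_apply, if_neg hj]
  have y2 := hperp 2 (by decide) e2
  have y3 := hperp 3 (by decide) e3
  have y4 := hperp 4 (by decide) e4
  have y5 := hperp 5 (by decide) e5
  have y01 : y 0 + y 1 = 1 := by
    rw [← herm_u2, hy]
    conv_lhs => rw [← h1]
    rw [hlin.2, herm_u2]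
    rfl
  have yn : y 0 * cj (y 0) + y 1 * cj (y 1) = 1 := by
    have h3 : herm y y = herm (e 0) (e 0) := hlin.2 _ _
    rw [herm_eq y y, y2, y3, y4, y5, herm_e] at h3
    simp only [zero_mul, add_zero] at h3
    exact h3
  have key : ∀ a b : F4, a + b = 1 → a * cj a + b * cj b = 1 → (a = 1 ∧ b = 0) ∨ (a = 0 ∧ b = 1) := by
    decide
  have u2e : u2 = e 0 + e 1 := by
    funext i; fin_cases i <;> rfl
  have e1y : g (e 1) = u2 + y := by
    have h3 : g (u2 + e 0) = u2 + y := by rw [map_add, h1]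
    rw [← h3]
    congr 1
    rw [u2e, add_right_comm, W_add_self, zero_add]
  rcases key _ _ y01 yn with ⟨y0, y1⟩ | ⟨y0, y1⟩
  · left
    have hy0 : y = e 0 := by
      funext i
      fin_cases i
      · exact y0
      · exact y1
      · exact y2
      · exact y3
      · exact y4
      · exact y5
    have hy1 : g (e 1) = e 1 := by
      rw [e1y, hy0, u2e, add_right_comm, W_add_self, zero_add]
    intro v
    show g v = v
    rw [S.sum v]
    conv_rhs => rw [eq_sum v]
    refine Finset.sum_congr rfl fun j _ => ?_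
    congr 1
    fin_cases j
    · exact hy0
    · exact hy1
    · exact e2
    · exact e3
    · exact e4
    · exact e5
  · right
    have hy0 : y = e 1 := by
      funext i
      fin_cases i
      · exact y0
      · exact y1
      · exact y2
      · exact y3
      · exact y4
      · exact y5
    have hy1 : g (e 1) = e 0 := by
      rw [e1y, hy0, u2e, add_assoc, W_add_self, add_zero]
    intro v
    show g v = tau u2 v
    rw [S.sum v, (sig_tau h isR_u2).sum v]
    refine Finset.sum_congr rfl fun j _ => ?_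
    congr 1
    have t0 : tau u2 (e 0) = e 1 := by
      rw [tau_u2]; funext i; fin_cases i <;> rfl
    have t1 : tau u2 (e 1) = e 0 := by
      rw [tau_u2]; funext i; fin_cases i <;> rfl
    have tj : ∀ j : Fin 6, j ≠ 0 → j ≠ 1 → tau u2 (e j) = e j := by
      intro j hj0 hj1
      apply tau_of_perp
      rw [herm_u2, e_apply, e_apply, if_neg hj0.symm, if_neg hj1.symm, add_zero]
    fin_cases j
    · exact hy0.trans t0.symm
    · exact hy1.trans t1.symm
    · exact e2.trans (tj 2 (by decide) (by decide)).symm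
    · exact e3.trans (tj 3 (by decide) (by decide)).symm
    · exact e4.trans (tj 4 (by decide) (by decide)).symm
    · exact e5.trans (tj 5 (by decide) (by decide)).symm

end Cfsg.Agent.Omega.EH3.UFour.Mod

end

-- merged: Cfsg.Agent.Mrg.Omega.EH3.UFour.Kill
section

section


/-!
# EH3, row U4(3): centralisers of `R`-type involutions of `Q` (helper586)

`Q = 2^(1+12)`, `FrameData h N M F4` with the standard labelling (`C_G(z)/Q` of type `3·U₄(3)`, any index), `C_G(x)` of
characteristic 2 for every involution `x`.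

* `le_cent` : `x ∈ Q` an involution of `R`-type: `C_G(x) ≤ C_G(z)`;
* `false_of_pair` : there is no pair `(z, a)` with `|D̃| > 4`.
-/

set_option autoImplicit false

namespace Cfsg.Agent.Omega.EH3.UFour.Kill

open Cfsg Subgroup Cfsg.Agent.ZN Cfsg.Agent.MinSimple.VModule
open Cfsg.Agent.SporRec.GF4 Cfsg.Agent.R08.ModVec Cfsg.Agent.R08.ModMono Cfsg.Agent.R08.Frame
open Cfsg.Agent.R08.ModOrb Cfsg.Agent.R08.ModIso Cfsg.Agent.R08.ModTau Cfsg.Agent.R08.ModSig
open Cfsg.Agent.R08.ModTriv Cfsg.Agent.R08.ModFrame Cfsg.Agent.R08.ModLab Cfsg.Agent.Co2Type.Quad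
open Cfsg.Agent.Omega.EH3.UFour.Mod
open scoped commutatorElement

/-! ### noncommuting pairs in subgroups of index two -/

section pairs

variable {G : Type*} [Group G]

theorem step {P S : Subgroup G} (h2 : ∀ a ∈ P, ∀ b ∈ P, a ∉ S → b ∉ S → a * b ∈ S) {e f : G} (he : e ∈ P)
    (hf : f ∈ P) (hef : e * f ≠ f * e) :
    ∃ k ∈ P, k ∈ S ∧ ∃ m ∈ P, k * m ≠ m * k ∧ (∀ y, Commute y e → Commute y f → Commute y k) ∧
      (∀ y, Commute y e → Commute y f → Commute y m) := by
  by_cases h1 : e ∈ S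
  · exact ⟨e, he, h1, f, hf, hef, fun y h _ => h, fun y _ h => h⟩
  · by_cases h3 : f ∈ S
    · exact ⟨f, hf, h3, e, he, hef.symm, fun y _ h => h, fun y h _ => h⟩
    · refine ⟨e * f, mul_mem he hf, h2 e he f hf h1 h3, e, he, ?_, fun y h h' => h.mul_right h', fun y h _ => h⟩
      intro h4
      apply hef
      rw [mul_assoc] at h4
      exact (mul_left_cancel h4).symm

/-- a subgroup of index at most two of a group with two commuting noncommuting pairs is not abelian -/
theorem exists_pair {P S : Subgroup G} (h2 : ∀ a ∈ P, ∀ b ∈ P, a ∉ S → b ∉ S → a * b ∈ S) {e f e' f' : G}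
    (he : e ∈ P) (hf : f ∈ P) (he' : e' ∈ P) (hf' : f' ∈ P) (hef : e * f ≠ f * e) (hef' : e' * f' ≠ f' * e')
    (c1 : Commute e e') (c2 : Commute e f') (c3 : Commute f e') (c4 : Commute f f') :
    ∃ a ∈ P, a ∈ S ∧ ∃ b ∈ P, b ∈ S ∧ a * b ≠ b * a := by
  obtain ⟨k, hk, hkS, m, hm, hkm, k1, k2⟩ := step h2 he hf hef
  obtain ⟨k', hk', hkS', m', hm', hkm', k1', k2'⟩ := step h2 he' hf' hef'
  by_cases h3 : m ∈ S
  · exact ⟨k, hk, hkS, m, hm, h3, hkm⟩
  by_cases h4 : m' ∈ S
  · exact ⟨k', hk', hkS', m', hm', h4, hkm'⟩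
  refine ⟨k, hk, hkS, m * m', mul_mem hm hm', h2 m hm m' hm' h3 h4, ?_⟩
  -- `k` commutes with `m'`
  have d1 : Commute k e' := (k1 e' c1.symm c3.symm).symm
  have d2 : Commute k f' := (k1 f' c2.symm c4.symm).symm
  have d3 : Commute k m' := k2' k d1 d2
  intro h5
  apply hkm
  have h6 : k * m * m' = m * k * m' := by
    calc k * m * m' = k * (m * m') := mul_assoc _ _ _
      _ = m * m' * k := h5
      _ = m * (m' * k) := mul_assoc _ _ _
      _ = m * (k * m') := by rw [d3.eq]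
      _ = m * k * m' := (mul_assoc _ _ _).symm
  exact mul_right_cancel h6

end pairs

/-! ### the labels of elements -/

section labels

variable {G : Type*} [Group G] {Q : Subgroup G} {z : G} {h : Large Q z}
  {N M : Subgroup (Subgroup.centralizer ({z} : Set G))}

/-- the label of an element of `Q` -/
noncomputable def lb (fd : FrameData h N M F4) (y : Q) : W := fd.lab (h.pr y)

theorem lb_surj (fd : FrameData h N M F4) (w : W) : ∃ y : Q, lb fd y = w := by
  obtain ⟨v, rfl⟩ := fd.lab.surjective w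
  obtain ⟨y, rfl⟩ := h.pr_surjective v
  exact ⟨y, rfl⟩

theorem lb_mul (fd : FrameData h N M F4) (x y : Q) : lb fd (x * y) = lb fd x + lb fd y := by
  unfold lb
  rw [h.pr_mul, map_add]

theorem lb_one (fd : FrameData h N M F4) : lb fd 1 = 0 := by
  unfold lb
  rw [h.pr_one, map_zero]

theorem lb_eq (fd : FrameData h N M F4) {x y : Q} (hxy : lb fd x = lb fd y) : (x : G) = y ∨ (x : G) = y * z :=
  h.pr_eq_pr.1 (fd.lab.injective hxy)

theorem lb_conj (fd : FrameData h N M F4) (c : Subgroup.centralizer ({z} : Set G)) (y : Q) :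
    lb fd (h.conjQ c y) = fn fd c (lb fd y) := by
  unfold lb
  rw [fn_lab, h.act_pr]

theorem lb_comm (fd : FrameData h N M F4) (x y : Q) :
    (x : G) * y = y * x ↔ herm (lb fd x) (lb fd y) = 0 ∨ herm (lb fd x) (lb fd y) = 1 :=
  (h.b_pr x y).symm.trans (fd.b_lab _ _)

theorem fn_zero (fd : FrameData h N M F4) (c : Subgroup.centralizer ({z} : Set G)) : fn fd c 0 = 0 := by
  unfold fn
  rw [map_zero, map_zero, map_zero]

theorem fn_add (fd : FrameData h N M F4) (c : Subgroup.centralizer ({z} : Set G)) (u v : W) :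
    fn fd c (u + v) = fn fd c u + fn fd c v := by
  unfold fn
  rw [map_add, map_add, map_add]

theorem fn_of_mem (fd : FrameData h N M F4) {c : Subgroup.centralizer ({z} : Set G)} (hc : (c : G) ∈ Q) (w : W) :
    fn fd c w = w := by
  unfold fn
  rw [h.act_mem c hc]
  exact fd.lab.apply_symm_apply w

theorem mem_of_fn [Finite Q] (fd : FrameData h N M F4) {c : Subgroup.centralizer ({z} : Set G)}
    (hc : ∀ w, fn fd c w = w) : (c : G) ∈ Q := by
  apply h.mem_of_act
  ext v
  have h1 := hc (fd.lab v)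
  rw [fn_lab] at h1
  exact fd.lab.injective h1

/-- an element commuting with `z` as an element of the centraliser -/
abbrev cz {g : G} (hg : g * z = z * g) : Subgroup.centralizer ({z} : Set G) :=
  ⟨g, mem_centralizer_singleton_iff.2 hg⟩

/-- the action of a subgroup of `C_G(z)` on the labels -/
noncomputable abbrev actW (fd : FrameData h N M F4) (F : Subgroup G) (hF : ∀ f ∈ F, f * z = z * f) :
    DistribMulAction F W where
  smul f w := fn fd (cz (hF f f.2)) w
  one_smul w := fn_one fd w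
  mul_smul f g w := fn_mul fd (cz (hF f f.2)) (cz (hF g g.2)) w
  smul_zero f := fn_zero fd (cz (hF f f.2))
  smul_add f u v := fn_add fd (cz (hF f f.2)) u v

/-- the preimage in `Q` of the vectors with `v 0 = v 1 = 0` -/
def E4 (fd : FrameData h N M F4) : Subgroup G where
  carrier := {y | ∃ hy : y ∈ Q, lb fd ⟨y, hy⟩ 0 = 0 ∧ lb fd ⟨y, hy⟩ 1 = 0}
  one_mem' := ⟨one_mem Q, by
    have : (⟨1, one_mem Q⟩ : Q) = 1 := rfl
    rw [this, lb_one]
    exact ⟨rfl, rfl⟩⟩
  mul_mem' := by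
    rintro x y ⟨hx, hx0, hx1⟩ ⟨hy, hy0, hy1⟩
    refine ⟨mul_mem hx hy, ?_⟩
    have : (⟨x * y, mul_mem hx hy⟩ : Q) = ⟨x, hx⟩ * ⟨y, hy⟩ := rfl
    rw [this, lb_mul, Pi.add_apply, Pi.add_apply, hx0, hx1, hy0, hy1]
    exact ⟨rfl, rfl⟩
  inv_mem' := by
    rintro x ⟨hx, hx0, hx1⟩
    refine ⟨inv_mem hx, ?_⟩
    have h1 : lb fd ⟨x⁻¹, inv_mem hx⟩ = lb fd ⟨x, hx⟩ := by
      have h2 : lb fd (⟨x⁻¹, inv_mem hx⟩ * ⟨x, hx⟩) = lb fd 1 := by
        congr 1
        exact inv_mul_cancel (⟨x, hx⟩ : Q)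
      rw [lb_mul, lb_one] at h2
      have h3 : lb fd ⟨x⁻¹, inv_mem hx⟩ + lb fd ⟨x, hx⟩ + lb fd ⟨x, hx⟩ = 0 + lb fd ⟨x, hx⟩ := by rw [h2]
      rwa [add_assoc, W_add_self, add_zero, zero_add] at h3
    rw [h1]
    exact ⟨hx0, hx1⟩

end labels

/-! ### centralisers of `R`-type involutions -/

section main

variable {G : Type*} [Group G] {Q : Subgroup G} {z : G} {h : Large Q z}
  {N M : Subgroup (Subgroup.centralizer ({z} : Set G))}

/-- elements of `M` fixing the label `u2` of `x` lift to `C_G(z) ∩ C_G(x)` -/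
theorem exists_lift (fd : FrameData h N M F4) {x : Q} (hx1 : (x : G) ≠ 1) (hxz : (x : G) ≠ z)
    (hu : lb fd x = u2) {A : SL} (hA : A ∈ grp fd) (hA2 : A • u2 = u2) :
    ∃ (c : G) (hc : c * z = z * c), c * x = x * c ∧ ∀ w, fn fd (cz hc) w = A • w := by
  obtain ⟨m, hm, hmv⟩ := hA
  have hfm : ∀ w, fn fd m w = A • w := by
    intro w
    obtain ⟨v, rfl⟩ := fd.lab.surjective w
    rw [fn_lab, hmv]
  have hmz : (m : G) * z = z * m := mem_centralizer_singleton_iff.1 m.2
  have h1 : lb fd (h.conjQ m x) = lb fd x := by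
    rw [lb_conj, hfm, hu, hA2]
  rcases lb_eq fd h1 with h2 | h2
  · refine ⟨m, hmz, ?_, hfm⟩
    rw [h.conjQ_coe] at h2
    exact mul_inv_eq_iff_eq_mul.1 h2
  · obtain ⟨q, hq, hqx⟩ := Cfsg.Agent.Omega.Shadow.exists_fuse h x.2 hx1 hxz
    have hqz := h.comm_z q hq
    have hqz' : q⁻¹ * z = z * q⁻¹ := ((show Commute q z from hqz).inv_left).eq
    have hc : q⁻¹ * m * z = z * (q⁻¹ * m) := by
      rw [mul_assoc, hmz, ← mul_assoc, hqz', mul_assoc]
    refine ⟨q⁻¹ * m, hc, ?_, fun w => ?_⟩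
    · rw [h.conjQ_coe] at h2
      have h3 : (q⁻¹ * m) * x * (q⁻¹ * m)⁻¹ = x := by
        calc (q⁻¹ * m) * x * (q⁻¹ * m)⁻¹ = q⁻¹ * ((m : G) * x * (m : G)⁻¹) * q := by group
          _ = q⁻¹ * (q * x * q⁻¹) * q := by rw [h2, hqx]
          _ = x := by group
      exact mul_inv_eq_iff_eq_mul.1 h3
    · have h3 : (cz hc : Subgroup.centralizer ({z} : Set G)) = cz hqz' * m := rfl
      rw [h3, fn_mul, fn_of_mem fd (inv_mem hq), hfm]

theorem herm_ee (a : F4) (i : Fin 6) : herm (e i) (a • e i) = cj a := by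
  rw [herm_smul_right, herm_e, e_apply, if_pos rfl, mul_one]

theorem herm_ne {i j : Fin 6} (hij : i ≠ j) (a b : F4) : herm (a • e i) (b • e j) = 0 := by
  rw [herm_smul_right, herm_smul_left, herm_e, e_apply, if_neg hij.symm, mul_zero, mul_zero]

theorem isR_ne (fd : FrameData h N M F4) {x : Q} (hu : IsR (lb fd x)) : (x : G) ≠ 1 ∧ (x : G) ≠ z := by
  have h0 : h.pr x ≠ 0 := by
    intro h0
    apply isR_ne_zero hu
    unfold lb
    rw [h0, map_zero]
  exact ⟨fun h1 => h0 (h.pr_eq_zero.2 (Or.inl h1)), fun h1 => h0 (h.pr_eq_zero.2 (Or.inr h1))⟩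

/-- **`C_G(x) ≤ C_G(z)` for `x` with label `u2`** -/
theorem le_cent_u2 [Finite G] (fd : FrameData h N M F4) (hs : Std (grp fd)) (hN : N.Normal) (hM : M.Normal)
    {x : Q} (hx2 : (x : G) * x = 1) (hu : lb fd x = u2)
    (hC : centralizer ({(x : G)} : Set G) ⊓ centralizer (o2 (centralizer ({(x : G)} : Set G)) : Set G) ≤
      o2 (centralizer ({(x : G)} : Set G))) {t : G} (ht : t * x = x * t) : t * z = z * t := by
  classical
  obtain ⟨hx1, hxz⟩ := isR_ne fd (x := x) (by rw [hu]; exact isR_u2)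
  set Y : Subgroup G := centralizer ({(x : G)} : Set G) with hY
  set R : Subgroup G := o2 Y with hR
  have memY : ∀ {g : G}, g ∈ Y ↔ g * x = x * g := fun {g} => mem_centralizer_singleton_iff
  have hRY : R ≤ Y := o2_le Y
  have hYR : Y ≤ normalizer (R : Set G) := le_normalizer_o2 Y
  have hR2 : IsPGroup 2 R := o2_isPGroup Y
  set F : Subgroup G := R ⊓ centralizer ({z} : Set G) with hFdef
  have memF : ∀ {r : G}, r ∈ F ↔ r ∈ R ∧ r * z = z * r := fun {r} => by
    rw [hFdef, mem_inf, mem_centralizer_singleton_iff]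
  have hFz : ∀ f ∈ F, f * z = z * f := fun f hf => (memF.1 hf).2
  have hFx : ∀ f ∈ F, f * x = x * f := fun f hf => memY.1 (hRY (memF.1 hf).1)
  have hconjF : ∀ c : G, c * z = z * c → c * x = x * c → ∀ r ∈ F, c * r * c⁻¹ ∈ F := by
    intro c hcz hcx r hr
    have h1 := memF.1 hr
    refine memF.2 ⟨(mem_normalizer_iff.1 (hYR (memY.2 hcx)) r).1 h1.1, ?_⟩
    have h2 : Commute c z := hcz
    have h3 : Commute r z := h1.2
    exact ((h2.mul_left h3).mul_left h2.inv_left).eq
  let act : DistribMulAction F W := actW fd F hFz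
  have hsm : ∀ (f : F) (w : W), f • w = fn fd (cz (hFz f f.2)) w := fun _ _ => rfl
  have O : Oh (grp fd) F :=
    { two := hR2.to_le inf_le_left
      fix := by
        intro f
        rw [hsm, ← hu, ← lb_conj]
        congr 1
        apply Subtype.ext
        rw [h.conjQ_coe]
        show (f : G) * x * (f : G)⁻¹ = x
        rw [hFx f f.2]; group
      norm := by
        intro A hA hA2 f
        obtain ⟨c, hcz, hcx, hcA⟩ := exists_lift fd hx1 hxz hu hA hA2
        have hcz' : c⁻¹ * z = z * c⁻¹ := ((show Commute c z from hcz).inv_left).eq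
        have hcx' : c⁻¹ * x = x * c⁻¹ := ((show Commute c x from hcx).inv_left).eq
        refine ⟨⟨c⁻¹ * f * c, by
          have := hconjF c⁻¹ hcz' hcx' f f.2
          rwa [inv_inv] at this⟩, fun v => ?_⟩
        rw [hsm, hsm, ← hcA, ← hcA, ← fn_mul, ← fn_mul]
        congr 1
        apply Subtype.ext
        show (f : G) * c = c * (c⁻¹ * f * c)
        group
      kind := by
        intro f
        rcases semi fd hN (cz (hFz f f.2)) with h1 | h1
        · exact Or.inl ⟨fun a v => h1.1 a v, fun u v => h1.2 u v⟩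
        · right
          intro a w
          have := h1.1 a w
          rw [sq_eq_cj] at this
          exact this
      isR := by
        intro f v hv
        exact pres fd hM hs _ hv }
  have hcase : ∀ f (hf : f ∈ F), (∀ w, fn fd (cz (hFz f hf)) w = w) ∨
      (∀ w, fn fd (cz (hFz f hf)) w = tau u2 w) := fun f hf => O.main hs ⟨f, hf⟩
  -- (i)
  have h4 : ∀ f (_ : f ∈ F), ∀ y : Q, (y : G) ∈ E4 fd → f * y * f⁻¹ = y ∨ f * y * f⁻¹ = y * z := by
    rintro f hf y ⟨hy, hy0, hy1⟩
    have h5 : lb fd (h.conjQ (cz (hFz f hf)) y) = lb fd y := by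
      rw [lb_conj]
      rcases hcase f hf with h6 | h6
      · exact h6 _
      · rw [h6]
        apply tau_of_perp
        rw [herm_u2]
        have e0 : lb fd y 0 = 0 := hy0
        have e1 : lb fd y 1 = 0 := hy1
        rw [e0, e1, add_zero]
    rcases lb_eq fd h5 with h6 | h6
    · exact Or.inl h6
    · exact Or.inr h6
  -- (ii)
  have hprod : ∀ f ∈ F, ∀ g ∈ F, f ∉ Q → g ∉ Q → f * g ∈ Q := by
    intro f hf g hg hfQ hgQ
    have h5 : ∀ {k : G} (hk : k ∈ F), k ∉ Q → ∀ w, fn fd (cz (hFz k hk)) w = tau u2 w := by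
      intro k hk hkQ
      rcases hcase k hk with h6 | h6
      · exact absurd (mem_of_fn fd h6) hkQ
      · exact h6
    have h6 : (cz (hFz _ (mul_mem hf hg)) : Subgroup.centralizer ({z} : Set G)) = cz (hFz f hf) * cz (hFz g hg) := rfl
    have h7 := mem_of_fn fd (c := cz (hFz _ (mul_mem hf hg))) (by
      intro w
      rw [h6, fn_mul, h5 hf hfQ, h5 hg hgQ, tau_tau (herm_of_isR isR_u2)])
    exact h7
  -- the labels of `F ∩ Q`
  let U0 : AddSubgroup W :=
    { carrier := {w | ∃ y : Q, (y : G) ∈ F ∧ lb fd y = w}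
      zero_mem' := ⟨1, one_mem F, lb_one fd⟩
      add_mem' := by
        rintro _ _ ⟨y, hy, rfl⟩ ⟨y', hy', rfl⟩
        exact ⟨y * y', mul_mem hy hy', lb_mul fd y y'⟩
      neg_mem' := by
        rintro _ ⟨y, hy, rfl⟩
        refine ⟨y, hy, ?_⟩
        rw [eq_neg_iff_add_eq_zero, W_add_self] }
  have hU0 : ∀ {w : W}, w ∈ U0 ↔ ∃ y : Q, (y : G) ∈ F ∧ lb fd y = w := Iff.rfl
  have hinv : Inv (grp fd) U0 := by
    rintro A hA hA2 _ ⟨y, hy, rfl⟩
    obtain ⟨c, hcz, hcx, hcA⟩ := exists_lift fd hx1 hxz hu hA hA2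
    refine ⟨h.conjQ (cz hcz) y, hconjF c hcz hcx y hy, ?_⟩
    rw [lb_conj, hcA]
  -- four elements
  have hnc : ∀ (i : Fin 6) (y y' : Q), lb fd y = e i → lb fd y' = F4.w • e i → (y : G) * y' ≠ y' * y := by
    intro i y y' h1 h2 h3
    rw [lb_comm fd, h1, h2, herm_ee] at h3
    exact absurd h3 (by decide)
  have hcm : ∀ (y y' : Q) (i j : Fin 6) (a b : F4), i ≠ j → lb fd y = a • e i → lb fd y' = b • e j →
      Commute (y : G) y' := by
    intro y y' i j a b hij h1 h2
    apply (lb_comm fd y y').2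
    rw [h1, h2, herm_ne hij]
    exact Or.inl rfl
  have hone : ∀ i : Fin 6, (1 : F4) • e i = e i := fun i => one_smul _ _
  rcases dich hs.fr hinv with hα | hβ
  · -- case α
    exfalso
    obtain ⟨y2, hy2⟩ := lb_surj fd (e 2)
    obtain ⟨y2', hy2'⟩ := lb_surj fd (F4.w • e 2)
    obtain ⟨y3, hy3⟩ := lb_surj fd (e 3)
    obtain ⟨y3', hy3'⟩ := lb_surj fd (F4.w • e 3)
    have hmem : ∀ (y : Q) (i : Fin 6) (a : F4), i ≠ 0 → i ≠ 1 → lb fd y = a • e i → (y : G) ∈ E4 fd := by
      intro y i a hi0 hi1 h1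
      refine ⟨y.2, ?_⟩
      have e1 : (⟨(y : G), y.2⟩ : Q) = y := rfl
      rw [e1, h1, Pi.smul_apply, Pi.smul_apply, e_apply, e_apply, if_neg hi0.symm, if_neg hi1.symm, smul_zero]
      exact ⟨rfl, rfl⟩
    -- `F ∩ Q` centralises `E4`
    have hF0 : ∀ f ∈ F, f ∈ Q → ∀ y ∈ E4 fd, f * y = y * f := by
      rintro f hf hfQ y ⟨hy, hy0, hy1⟩
      have h1 := hα _ (hU0.2 ⟨⟨f, hfQ⟩, hf, rfl⟩)
      have h2 := (lb_comm fd ⟨f, hfQ⟩ ⟨y, hy⟩).2 (by
        left
        rw [herm_eq, hy0, hy1, h1 2 (by decide) (by decide), h1 3 (by decide) (by decide),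
          h1 4 (by decide) (by decide), h1 5 (by decide) (by decide), cj_zero]
        simp only [mul_zero, zero_mul, add_zero])
      exact h2
    have hidx : ∀ a ∈ E4 fd, ∀ b ∈ E4 fd, a ∉ centralizer (F : Set G) → b ∉ centralizer (F : Set G) →
        a * b ∈ centralizer (F : Set G) := by
      intro a ha b hb hca hcb
      -- `f a f⁻¹ = a z` for all `f ∈ F ∖ Q`
      have key : ∀ a ∈ E4 fd, a ∉ centralizer (F : Set G) → ∀ f ∈ F, f ∉ Q → f * a * f⁻¹ = a * z := by
        intro a ha hca f hf hfQ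
        obtain ⟨haQ, -, -⟩ := id ha
        have h1 : ∃ g ∈ F, g * a ≠ a * g := by
          by_contra hcon
          push Not at hcon
          exact hca (mem_centralizer_iff.2 fun g hg => hcon g hg)
        obtain ⟨g, hg, hga⟩ := h1
        have hgQ : g ∉ Q := fun hgQ => hga (hF0 g hg hgQ a ha)
        have h2 : g * a * g⁻¹ = a * z := by
          rcases h4 g hg ⟨a, haQ⟩ ha with h3 | h3
          · exact absurd (mul_inv_eq_iff_eq_mul.1 h3) hga
          · exact h3
        have hu' : f * g ∈ Q := hprod f hf g hg hfQ hgQ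
        have h3 := hF0 (f * g) (mul_mem hf hg) hu' a ha
        have hgz := hFz g hg
        have h5 : g⁻¹ * a * g = a * z := by
          have h6 : a = g⁻¹ * (a * z) * g := by rw [← h2]; group
          have h7 : g⁻¹ * z * g = z := by rw [mul_assoc, ← hgz]; group
          calc g⁻¹ * a * g = (g⁻¹ * a * g) * (z * z) := by rw [h.z_sq, mul_one]
            _ = (g⁻¹ * a * g) * z * z := (mul_assoc _ _ _).symm
            _ = (g⁻¹ * a * g) * (g⁻¹ * z * g) * z := by rw [h7]
            _ = (g⁻¹ * (a * z) * g) * z := by group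
            _ = a * z := by rw [← h6]
        calc f * a * f⁻¹ = (f * g) * (g⁻¹ * a * g) * (f * g)⁻¹ := by group
          _ = (f * g) * (a * z) * (f * g)⁻¹ := by rw [h5]
          _ = (f * g * a) * (z * (f * g)⁻¹) := by group
          _ = (a * (f * g)) * ((f * g)⁻¹ * z) := by
              rw [h3, ((show Commute (f * g) z from hFz _ (mul_mem hf hg)).inv_left).eq]
          _ = a * z := by group
      rw [mem_centralizer_iff]
      intro f hf
      by_cases hfQ : f ∈ Q
      · exact hF0 f hf hfQ _ (mul_mem ha hb)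
      · have h1 := key a ha hca f hf hfQ
        have h2 := key b hb hcb f hf hfQ
        obtain ⟨hbQ, -, -⟩ := id hb
        have h3 : f * (a * b) * f⁻¹ = a * b := by
          calc f * (a * b) * f⁻¹ = (f * a * f⁻¹) * (f * b * f⁻¹) := by group
            _ = a * (z * b) * z := by rw [h1, h2]; group
            _ = a * (b * z) * z := by rw [h.comm_z b hbQ]
            _ = a * b * (z * z) := by group
            _ = a * b := by rw [h.z_sq, mul_one]
        exact mul_inv_eq_iff_eq_mul.1 h3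
    obtain ⟨a, haE, haS, b, hbE, hbS, hab⟩ := exists_pair hidx
      (hmem y2 2 1 (by decide) (by decide) (by rw [hone]; exact hy2))
      (hmem y2' 2 _ (by decide) (by decide) hy2')
      (hmem y3 3 1 (by decide) (by decide) (by rw [hone]; exact hy3))
      (hmem y3' 3 _ (by decide) (by decide) hy3')
      (hnc 2 y2 y2' hy2 hy2') (hnc 3 y3 y3' hy3 hy3')
      (hcm y2 y3 2 3 1 1 (by decide) (by rw [hone]; exact hy2) (by rw [hone]; exact hy3))
      (hcm y2 y3' 2 3 1 _ (by decide) (by rw [hone]; exact hy2) hy3')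
      (hcm y2' y3 2 3 _ 1 (by decide) hy2' (by rw [hone]; exact hy3))
      (hcm y2' y3' 2 3 _ _ (by decide) hy2' hy3')
    obtain ⟨haQ, -, -⟩ := haE
    obtain ⟨hbQ, -, -⟩ := hbE
    have hx : (x : G) * z = z * x := h.comm_z x x.2
    refine Cfsg.Agent.Omega.ShadowComm.not_mem_commutator_o2 (x := (x : G)) hx2 hx h.z_sq h.z_ne hC
      (E := Q ⊓ centralizer (F : Set G)) ?_ ?_ ?_
    · intro y hy
      exact h.comm_z y (mem_inf.1 hy).1
    · intro y hy f hf hfz
      exact (mem_centralizer_iff.1 (mem_inf.1 hy).2 f (memF.2 ⟨hf, hfz⟩)).symm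
    · have h1 := Cfsg.Agent.Omega.Shadow.comm_eq h haQ hbQ hab
      rw [← h1]
      exact commutator_mem_commutator (mem_inf.2 ⟨haQ, haS⟩) (mem_inf.2 ⟨hbQ, hbS⟩)
  · -- case β
    have hex : ∀ (i : Fin 6) (a : F4), i ≠ 0 → i ≠ 1 → ∃ y : Q, (y : G) ∈ F ∧ lb fd y = a • e i := by
      intro i a hi0 hi1
      apply hU0.1
      apply hβ
      · rw [Pi.smul_apply, e_apply, if_neg hi0.symm, smul_zero]
      · rw [Pi.smul_apply, e_apply, if_neg hi1.symm, smul_zero]
    obtain ⟨y2, hF2, hy2⟩ := hex 2 1 (by decide) (by decide)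
    obtain ⟨y2', hF2', hy2'⟩ := hex 2 .w (by decide) (by decide)
    obtain ⟨y3, hF3, hy3⟩ := hex 3 1 (by decide) (by decide)
    obtain ⟨y3', hF3', hy3'⟩ := hex 3 .w (by decide) (by decide)
    have key : ∀ g : G, (∀ f ∈ F, g * f * g⁻¹ ∈ F) → g * z = z * g := by
      intro g hg
      have hcj : ∀ {u v : G}, u * v ≠ v * u → (g * u * g⁻¹) * (g * v * g⁻¹) ≠ (g * v * g⁻¹) * (g * u * g⁻¹) := by
        intro u v huv h1
        apply huv
        have h2 : g * (u * v) * g⁻¹ = g * (v * u) * g⁻¹ := by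
          calc g * (u * v) * g⁻¹ = (g * u * g⁻¹) * (g * v * g⁻¹) := by group
            _ = (g * v * g⁻¹) * (g * u * g⁻¹) := h1
            _ = g * (v * u) * g⁻¹ := by group
        exact mul_left_cancel (mul_right_cancel h2)
      have hcc : ∀ {u v : G}, Commute u v → Commute (g * u * g⁻¹) (g * v * g⁻¹) := by
        intro u v huv
        show (g * u * g⁻¹) * (g * v * g⁻¹) = (g * v * g⁻¹) * (g * u * g⁻¹)
        calc (g * u * g⁻¹) * (g * v * g⁻¹) = g * (u * v) * g⁻¹ := by group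
          _ = g * (v * u) * g⁻¹ := by rw [huv.eq]
          _ = (g * v * g⁻¹) * (g * u * g⁻¹) := by group
      have hPm : ∀ y : Q, (y : G) ∈ F → g * y * g⁻¹ ∈ F ⊓ Q.map (MulAut.conj g).toMonoidHom := by
        intro y hy
        exact mem_inf.2 ⟨hg y hy, ⟨y, y.2, rfl⟩⟩
      obtain ⟨a, haP, haS, b, hbP, hbS, hab⟩ := exists_pair (P := F ⊓ Q.map (MulAut.conj g).toMonoidHom) (S := Q)
        (fun a ha b hb => hprod a (mem_inf.1 ha).1 b (mem_inf.1 hb).1)
        (hPm y2 hF2) (hPm y2' hF2') (hPm y3 hF3) (hPm y3' hF3')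
        (hcj (hnc 2 y2 y2' (by rw [hy2, hone]) hy2')) (hcj (hnc 3 y3 y3' (by rw [hy3, hone]) hy3'))
        (hcc (hcm y2 y3 2 3 _ _ (by decide) hy2 hy3)) (hcc (hcm y2 y3' 2 3 _ _ (by decide) hy2 hy3'))
        (hcc (hcm y2' y3 2 3 _ _ (by decide) hy2' hy3)) (hcc (hcm y2' y3' 2 3 _ _ (by decide) hy2' hy3'))
      obtain ⟨a', ha', ha2⟩ := (mem_inf.1 haP).2
      obtain ⟨b', hb', hb2⟩ := (mem_inf.1 hbP).2
      have ha3 : g * a' * g⁻¹ = a := ha2
      have hb3 : g * b' * g⁻¹ = b := hb2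
      have h1 := Cfsg.Agent.Omega.Shadow.comm_eq h haS hbS hab
      have hab' : a' * b' ≠ b' * a' := by
        intro h2
        apply hab
        rw [← ha3, ← hb3]
        exact (hcc (show Commute a' b' from h2)).eq
      have h2 := Cfsg.Agent.Omega.Shadow.comm_eq h ha' hb' hab'
      have h3 : g * z * g⁻¹ = z := by
        calc g * z * g⁻¹ = g * (a' * b' * a'⁻¹ * b'⁻¹) * g⁻¹ := by rw [h2]
          _ = a * b * a⁻¹ * b⁻¹ := by rw [← ha3, ← hb3]; group
          _ = z := h1
      exact mul_inv_eq_iff_eq_mul.1 h3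
    have hRF : F = R := by
      by_contra hne
      obtain ⟨n, hn1, hn2, hn3⟩ :=
        Cfsg.Agent.Involutions.BaerSuzuki.exists_mem_normalizer_of_lt hR2 (lt_of_le_of_ne inf_le_left hne)
      exact hn2 (memF.2 ⟨hn1, key n fun f hf => (mem_normalizer_iff.1 hn3 f).1 hf⟩)
    apply key
    intro f hf
    rw [hRF] at hf ⊢
    exact (mem_normalizer_iff.1 (hYR (memY.2 ht)) f).1 hf

/-- the centraliser of every involution has characteristic 2 -/
def Char2 (G : Type*) [Group G] : Prop :=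
  ∀ x : G, x * x = 1 → x ≠ 1 → centralizer ({x} : Set G) ⊓ centralizer (o2 (centralizer ({x} : Set G)) : Set G) ≤
    o2 (centralizer ({x} : Set G))

/-- **`C_G(x) ≤ C_G(z)` for `x` of `R`-type** -/
theorem le_cent [Finite G] (fd : FrameData h N M F4) (hs : Std (grp fd)) (hN : N.Normal) (hM : M.Normal)
    (hC : Char2 G) {x : Q} (hx2 : (x : G) * x = 1) (hR : IsR (lb fd x)) {t : G} (ht : t * x = x * t) :
    t * z = z * t := by
  obtain ⟨A, ⟨m, hm, hmv⟩, hAx⟩ := hs.transR hR isR_u2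
  obtain ⟨hx1, hxz⟩ := isR_ne fd hR
  have hfm : ∀ w, fn fd m w = A • w := by
    intro w
    obtain ⟨v, rfl⟩ := fd.lab.surjective w
    rw [fn_lab, hmv]
  have hmz : (m : G) * z = z * m := mem_centralizer_singleton_iff.1 m.2
  have hu : lb fd (h.conjQ m x) = u2 := by rw [lb_conj, hfm, hAx]
  have hco : ((h.conjQ m x : Q) : G) = m * x * (m : G)⁻¹ := h.conjQ_coe m x
  have hy2 : ((h.conjQ m x : Q) : G) * (h.conjQ m x : Q) = 1 := by
    rw [hco]
    calc (m : G) * x * (m : G)⁻¹ * (m * x * (m : G)⁻¹) = m * (x * x) * (m : G)⁻¹ := by group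
      _ = 1 := by rw [hx2]; group
  have hy1 : ((h.conjQ m x : Q) : G) ≠ 1 := by
    rw [hco]
    intro h1
    apply hx1
    have h2 : (m : G) * x = m := by
      have := mul_inv_eq_iff_eq_mul.1 h1
      rwa [one_mul] at this
    exact mul_eq_left.1 h2
  have h1 := le_cent_u2 fd hs hN hM hy2 hu (hC _ hy2 hy1) (t := m * t * (m : G)⁻¹) (by
    rw [hco]
    calc (m : G) * t * (m : G)⁻¹ * (m * x * (m : G)⁻¹) = m * (t * x) * (m : G)⁻¹ := by group
      _ = m * (x * t) * (m : G)⁻¹ := by rw [ht]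
      _ = m * x * (m : G)⁻¹ * (m * t * (m : G)⁻¹) := by group)
  have hmz' : (m : G)⁻¹ * z = z * (m : G)⁻¹ := ((show Commute (m : G) z from hmz).inv_left).eq
  calc t * z = (m : G)⁻¹ * ((m * t * (m : G)⁻¹) * (m * z)) := by group
    _ = (m : G)⁻¹ * ((m * t * (m : G)⁻¹) * (z * m)) := by rw [hmz]
    _ = (m : G)⁻¹ * ((m * t * (m : G)⁻¹ * z) * m) := by group
    _ = (m : G)⁻¹ * ((z * (m * t * (m : G)⁻¹)) * m) := by rw [h1]
    _ = ((m : G)⁻¹ * z) * (m * t) := by group
    _ = (z * (m : G)⁻¹) * (m * t) := by rw [hmz']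
    _ = z * t := by group

end main

/-! ### pairs -/

section pair

open Cfsg.Agent.LargeExtra.Base Cfsg.Agent.LargeExtra.Local

variable {G : Type*} [Group G] {Q A : Subgroup G} {z a : G}
  {N M : Subgroup (Subgroup.centralizer ({z} : Set G))}

theorem herm_lb {Q : Subgroup G} {h : Large Q z} (fd : FrameData h N M F4) {v : h.V} (hv : h.q v = 0) :
    herm (fd.lab v) (fd.lab v) = 0 := (fd.q_lab v).1 hv

/-- the label of `a` is not of `R`-type -/
theorem not_isR_a [Finite G] (p : Pair Q z A a) (fd : FrameData p.lz N M F4) (hs : Std (grp fd)) (hN : N.Normal)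
    (hM : M.Normal) (hC : Char2 G) : ¬ IsR (lb fd ⟨a, p.a_mem⟩) := by
  intro hR
  have h1 : ∀ t ∈ A, t * z = z * t := fun t ht =>
    le_cent fd hs hN hM hC (x := ⟨a, p.a_mem⟩) p.la.z_sq hR (p.la.comm_z t ht)
  rcases p.la.cent z p.z_mem (fun y hy => (h1 y hy).symm) with h2 | h2
  · exact p.lz.z_ne h2
  · exact p.ne h2.symm

theorem wt_small {v : W} {i j : Fin 6} (hv : ∀ l, l ≠ i → l ≠ j → v l = 0) : wt v ≤ 2 := by
  rw [← card_supp]
  have : supp v ⊆ {i, j} := by
    intro l hl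
    rw [mem_supp] at hl
    rw [Finset.mem_insert, Finset.mem_singleton]
    by_contra hcon
    push Not at hcon
    exact hl (hv l hcon.1 hcon.2)
  exact (Finset.card_le_card this).trans Finset.card_le_two

theorem wt_small3 {v : W} {i j k : Fin 6} (hv : ∀ l, l ≠ i → l ≠ j → l ≠ k → v l = 0) : wt v ≤ 3 := by
  rw [← card_supp]
  have : supp v ⊆ {i, j, k} := by
    intro l hl
    rw [mem_supp] at hl
    rw [Finset.mem_insert, Finset.mem_insert, Finset.mem_singleton]
    by_contra hcon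
    push Not at hcon
    exact hl (hv l hcon.1 hcon.2.1 hcon.2.2)
  exact (Finset.card_le_card this).trans Finset.card_le_three

/-- `D̃` contains a vector of `R`-type if `|D̃| > 4` -/
theorem exists_isR [Finite G] (p : Pair Q z A a) (fd : FrameData p.lz N M F4) (hs : Std (grp fd)) (hN : N.Normal)
    (hM : M.Normal) (hC : Char2 G) (hD : 4 < Nat.card p.D) : ∃ v ∈ p.D, IsR (fd.lab v) := by
  classical
  by_contra hcon
  push Not at hcon
  have hva : p.va ≠ 0 := p.va_ne
  have hS : IsS (fd.lab p.va) := by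
    rcases isR_or_isS (herm_lb fd (p.q_D p.va_mem_D)) (fun h0 => hva (by
      apply fd.lab.injective
      rw [h0, map_zero])) with h1 | h1
    · exact absurd h1 (hcon _ p.va_mem_D)
    · exact h1
  obtain ⟨A0, hA0, hA0a⟩ := hs.transS hS isS_u4
  let D1 : AddSubgroup W :=
    { carrier := {w | ∃ v ∈ p.D, A0 • fd.lab v = w}
      zero_mem' := ⟨0, p.D.zero_mem, by rw [map_zero, smul_zero]⟩
      add_mem' := by
        rintro _ _ ⟨v, hv, rfl⟩ ⟨v', hv', rfl⟩
        exact ⟨v + v', p.D.add_mem hv hv', by rw [map_add, smul_add]⟩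
      neg_mem' := by
        rintro _ ⟨v, hv, rfl⟩
        refine ⟨v, hv, ?_⟩
        rw [eq_neg_iff_add_eq_zero, W_add_self] }
  have hD1 : ∀ {w : W}, w ∈ D1 ↔ ∃ v ∈ p.D, A0 • fd.lab v = w := Iff.rfl
  -- nonzero vectors of `D1` are singular, not of `R`-type
  have hsing : ∀ w ∈ D1, herm w w = 0 := by
    rintro _ ⟨v, hv, rfl⟩
    rw [herm_smul hs.fr hA0]
    exact herm_lb fd (p.q_D hv)
  have hnR : ∀ w ∈ D1, ¬ IsR w := by
    rintro _ ⟨v, hv, rfl⟩ hR
    exact hcon v hv ((hs.isR_smul hA0).1 hR)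
  have hwt : ∀ w ∈ D1, wt w ≤ 3 → w = 0 := by
    intro w hw h3
    by_contra h0
    rcases herm_self_eq (hsing w hw) h0 with h1 | h1 | h1
    · exact hnR w hw (Or.inl h1)
    · omega
    · omega
  have hinv : ∀ B ∈ grp fd, B • u4 = u4 → ∀ w ∈ D1, B • w ∈ D1 := by
    rintro B hB hB4 _ ⟨v, hv, rfl⟩
    have hB' : A0⁻¹ * B * A0 ∈ grp fd := mul_mem (mul_mem (inv_mem hA0) hB) hA0
    obtain ⟨m, hm, hmv⟩ := hB'
    have h1 : p.lz.act m p.va = p.va := by
      apply fd.lab.injective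
      rw [hmv, mul_smul, mul_smul, hA0a, hB4, ← hA0a, inv_smul_smul]
    refine ⟨p.lz.act m v, p.D_inv ⟨m, rfl⟩ h1 hv, ?_⟩
    rw [hmv, mul_smul, mul_smul, smul_inv_smul]
  obtain ⟨B, hB, -, hBv⟩ := exists_diag2 hs.fr (i := 4) (j := 5) (by decide) (by decide) (by decide)
  have hB4 : B • u4 = u4 := by
    funext l
    rw [hBv]
    fin_cases l <;> rfl
  have h45 : ∀ w ∈ D1, w 4 = 0 ∧ w 5 = 0 := by
    intro w hw
    have hy : w + B • w ∈ D1 := D1.add_mem hw (hinv B hB hB4 w hw)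
    have k1 : ∀ x : F4, x + F4.o * x = 0 := by decide
    have h1 : w + B • w = 0 := by
      apply hwt _ hy
      have h2 : wt (w + B • w) ≤ 2 := by
        apply wt_small (i := 4) (j := 5)
        intro l h4 h5
        rw [Pi.add_apply, hBv, if_neg h4, if_neg h5, k1]
      omega
    have k2 : ∀ x : F4, x + F4.w * x = 0 → x = 0 := by decide
    have k3 : ∀ x : F4, x + F4.v * x = 0 → x = 0 := by decide
    constructor
    · apply k2
      have := congrFun h1 4
      rwa [Pi.add_apply, hBv, if_pos rfl] at this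
    · apply k3
      have := congrFun h1 5
      rwa [Pi.add_apply, hBv, if_neg (by decide), if_pos rfl] at this
  have hinj : Function.Injective fun v : p.D => (A0 • fd.lab (v : p.lz.V)) 0 := by
    intro v v' hvv
    have hvv : (A0 • fd.lab (v : p.lz.V)) 0 = (A0 • fd.lab (v' : p.lz.V)) 0 := hvv
    apply Subtype.ext
    have hd : A0 • fd.lab (v : p.lz.V) + A0 • fd.lab (v' : p.lz.V) ∈ D1 :=
      D1.add_mem ⟨v, v.2, rfl⟩ ⟨v', v'.2, rfl⟩
    have h0 : A0 • fd.lab (v : p.lz.V) + A0 • fd.lab (v' : p.lz.V) = 0 := by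
      apply hwt _ hd
      apply wt_small3 (i := 1) (j := 2) (k := 3)
      intro l h1 h2 h3
      have hl : l = 0 ∨ l = 4 ∨ l = 5 := by
        revert h1 h2 h3; fin_cases l <;> decide
      rcases hl with rfl | rfl | rfl
      · rw [Pi.add_apply, hvv, add_self]
      · exact (h45 _ hd).1
      · exact (h45 _ hd).2
    apply fd.lab.injective
    have h1 : A0 • fd.lab (v : p.lz.V) = A0 • fd.lab (v' : p.lz.V) := by
      have h2 : A0 • fd.lab (v : p.lz.V) + A0 • fd.lab (v' : p.lz.V) + A0 • fd.lab (v' : p.lz.V) =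
          0 + A0 • fd.lab (v' : p.lz.V) := by rw [h0]
      rwa [add_assoc, W_add_self, add_zero, zero_add] at h2
    have h3 := congrArg (fun w => A0⁻¹ • w) h1
    simpa only [inv_smul_smul] using h3
  have h1 := Nat.card_le_card_of_injective _ hinj
  have h2 : Nat.card F4 = 4 := Nat.card_eq_fintype_card.trans rfl
  omega

/-- **the row U4(3) is empty** -/
theorem false_of_pair [Finite G] (p : Pair Q z A a) (fd : FrameData p.lz N M F4) (hs : Std (grp fd)) (hN : N.Normal)
    (hM : M.Normal) (hC : Char2 G) (hD : 4 < Nat.card p.D) : False := by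
  obtain ⟨v, hv, hR⟩ := exists_isR p fd hs hN hM hC hD
  obtain ⟨x, rfl⟩ := p.lz.pr_surjective v
  have hxA : (x : G) ∈ A := (p.pr_mem_D x).1 hv
  have hRx : IsR (lb fd x) := hR
  obtain ⟨hx1, hxz⟩ := isR_ne fd hRx
  have hx2 : (x : G) * x = 1 := p.sq_D x.2 hxA
  have hza : z ≠ x * a := by
    intro h1
    apply not_isR_a p fd hs hN hM hC
    have h2 : (x : G) = a * z := by
      have h3 : (x : G) = z * a⁻¹ := by rw [h1]; group
      have h4 : a⁻¹ = a := inv_eq_of_mul_eq_one_left p.la.z_sq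
      rw [h3, h4, p.comm_za]
    have h3 : lb fd x = lb fd ⟨a, p.a_mem⟩ := by
      unfold lb
      congr 1
      exact p.lz.pr_eq_pr.2 (Or.inr h2)
    rwa [← h3]
  obtain ⟨e, he, hex, hez⟩ := Cfsg.Agent.Omega.Shadow.exists_not_comm p.la hxA p.z_mem p.lz.z_ne p.ne.symm
    hxz.symm hza
  exact hez (le_cent fd hs hN hM hC hx2 hRx hex)

end pair

end Cfsg.Agent.Omega.EH3.UFour.Kill

end

section


/-!
# EH3, row `U₄(3)`: `PSU(4, 3)` does not act faithfully on `2^12` (helper586)

`U : UData S` (an elementary abelian `3⁴` in `S` with five elements normalising it): the hyperplanes of `3⁴` fall into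
orbits of lengths 10, 15, 15 under the normaliser, so a faithful module over `F₂` has at least `4^7` elements.
-/

set_option autoImplicit false

namespace Cfsg.Agent.Omega.EH3.UFour.NoTriv

open Cfsg.Agent.R08.FrameAData Cfsg.Agent.R08.FrameAWeights Cfsg.Agent.R08.FrameAGroup

/-- the elementary abelian group `3⁴`, additively -/
abbrev T := Fin 4 → ZMod 3

/-- the elementary abelian group `3⁴` -/
abbrev P := Multiplicative T

/-! ### Functionals and hyperplanes -/

/-- the hyperplane of a functional -/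
def kr (f : T) : Subgroup P where
  carrier := {p | f ⬝ᵥ (p.toAdd) = 0}
  one_mem' := dotProduct_zero f
  mul_mem' := fun {a b} ha hb => by
    show f ⬝ᵥ (a.toAdd + b.toAdd) = 0
    rw [dotProduct_add, show f ⬝ᵥ a.toAdd = 0 from ha, show f ⬝ᵥ b.toAdd = 0 from hb, add_zero]
  inv_mem' := fun {a} ha => by
    show f ⬝ᵥ (-a.toAdd) = 0
    rw [dotProduct_neg, show f ⬝ᵥ a.toAdd = 0 from ha, neg_zero]

theorem mem_kr {f : T} {p : P} : p ∈ kr f ↔ f ⬝ᵥ p.toAdd = 0 := Iff.rfl

theorem zmod_sq : ∀ x : ZMod 3, x ≠ 0 → x * x = 1 := by decide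
theorem zmod_cases : ∀ x : ZMod 3, x = 0 ∨ x = 1 ∨ x = -1 := by decide

/-- functionals with the same hyperplane agree up to sign -/
theorem eq_or_neg {f f' : T} (hf : f ≠ 0) (hf' : f' ≠ 0) (h : kr f ≤ kr f') : f' = f ∨ f' = -f := by
  obtain ⟨i, hi⟩ := Function.ne_iff.1 hf
  have h1 : ∀ j, f' j * f i = f' i * f j := by
    intro j
    have h2 : Multiplicative.ofAdd (Pi.single j (f i) - Pi.single i (f j)) ∈ kr f := by
      rw [mem_kr, toAdd_ofAdd, dotProduct_sub, dotProduct_single, dotProduct_single, mul_comm, sub_self]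
    have h3 := h h2
    rw [mem_kr, toAdd_ofAdd, dotProduct_sub, dotProduct_single, dotProduct_single] at h3
    exact sub_eq_zero.1 h3
  have h2 : ∀ j, f' j = (f' i * f i) * f j := by
    intro j
    calc f' j = f' j * (f i * f i) := by rw [zmod_sq _ hi, mul_one]
      _ = (f' j * f i) * f i := by ring
      _ = _ := by rw [h1 j]; ring
  rcases zmod_cases (f' i * f i) with h0 | h0 | h0
  · exfalso
    apply hf'
    funext j
    rw [h2 j, h0, zero_mul]; rfl
  · left
    funext j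
    rw [h2 j, h0, one_mul]
  · right
    funext j
    rw [h2 j, h0, neg_one_mul]; rfl

theorem index_kr {f : T} (hf : f ≠ 0) : (kr f).index = 3 := by
  obtain ⟨i, hi⟩ := Function.ne_iff.1 hf
  let g : Fn P :=
    { toFun := fun p => Multiplicative.ofAdd (f ⬝ᵥ p.toAdd)
      map_one' := congrArg Multiplicative.ofAdd (dotProduct_zero f)
      map_mul' := fun a b => congrArg Multiplicative.ofAdd (dotProduct_add f a.toAdd b.toAdd) }
  have h1 : g.ker = kr f := by
    ext p
    exact Iff.rfl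
  rw [← h1]
  refine index_ker (p := Multiplicative.ofAdd (Pi.single i 1)) fun h => hi ?_
  have h2 : f ⬝ᵥ (Pi.single i 1) = 0 := h
  rw [dotProduct_single, mul_one] at h2
  exact h2

theorem cube (p : P) : p ^ 3 = 1 := by
  have : ∀ x : ZMod 3, 3 • x = 0 := by decide
  apply Multiplicative.toAdd.injective
  rw [toAdd_pow, toAdd_one]
  funext i
  exact this _

/-- every hyperplane comes from a functional -/
theorem exists_kr {W : Subgroup P} (hW : W.index = 3) : ∃ f : T, f ≠ 0 ∧ W = kr f := by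
  obtain ⟨b, hb⟩ : ∃ b : P, b ∉ W := by
    by_contra h
    push Not at h
    have : W = ⊤ := (Subgroup.eq_top_iff' W).2 h
    rw [this, Subgroup.index_top] at hW
    norm_num at hW
  have hb1 : (QuotientGroup.mk b : P ⧸ W) ≠ 1 := fun h => hb ((QuotientGroup.eq_one_iff b).1 h)
  have : Fintype (P ⧸ W) := Fintype.ofFinite _
  obtain ⟨g, hg⟩ := exists_fn (P := P ⧸ W) (fun p => by
    obtain ⟨q, rfl⟩ := QuotientGroup.mk_surjective p
    rw [← QuotientGroup.mk_pow, cube, QuotientGroup.mk_one]) hb1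
  let f : Fn P := g.comp (QuotientGroup.mk' W)
  have hfb : f b ≠ 1 := by
    show g (QuotientGroup.mk b) ≠ 1
    rw [hg]; decide
  have hle : W ≤ f.ker := by
    intro w hw
    rw [MonoidHom.mem_ker]
    show g (QuotientGroup.mk w) = 1
    rw [(QuotientGroup.eq_one_iff w).2 hw, map_one]
  have hWf : W = f.ker := by
    refine Subgroup.eq_of_le_of_card_ge hle ?_
    have h1 := W.card_mul_index
    have h2 := f.ker.card_mul_index
    rw [hW] at h1
    rw [index_ker hfb] at h2
    omega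
  let F : T := fun i => (f (Multiplicative.ofAdd (Pi.single i 1))).toAdd
  let f1 : T →+ ZMod 3 :=
    { toFun := fun a => (f (Multiplicative.ofAdd a)).toAdd
      map_zero' := by rw [ofAdd_zero, map_one, toAdd_one]
      map_add' := fun a b => by rw [ofAdd_add, map_mul, toAdd_mul] }
  let f2 : T →+ ZMod 3 :=
    { toFun := fun a => F ⬝ᵥ a
      map_zero' := dotProduct_zero F
      map_add' := fun a b => dotProduct_add F a b }
  have h12 : f1 = f2 := by
    refine hom_ext f1 f2 fun i => ?_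
    show (f (Multiplicative.ofAdd (Pi.single i 1))).toAdd = F ⬝ᵥ (Pi.single i 1)
    rw [dotProduct_single, mul_one]
  have h3 : ∀ p : P, (f p).toAdd = F ⬝ᵥ p.toAdd := fun p => DFunLike.congr_fun h12 p.toAdd
  have hk : W = kr F := by
    rw [hWf]
    ext p
    rw [MonoidHom.mem_ker, mem_kr, ← h3]
    exact Iff.rfl
  refine ⟨F, ?_, hk⟩
  rintro h0
  apply hb
  rw [hk, mem_kr, h0, zero_dotProduct]

/-! ### The dual maps -/

/-- dual of `gh` -/
def dh (f : T) : T := ![f 2, 2 * f 1 + 2 * f 2, f 0 + 2 * f 1 + 2 * f 2 + f 3, 2 * f 2 + f 3]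
/-- dual of `gd` -/
def dd (f : T) : T := ![2 * f 0, f 3, 2 * f 2, 2 * f 1]
/-- dual of `gw` -/
def dw (f : T) : T := ![f 2, f 1, f 0, 2 * f 3]
/-- dual of `g1` -/
def d1 (f : T) : T := ![f 0, f 1, f 0 + f 2 + f 3, 2 * f 0 + f 3]
/-- dual of `g2` -/
def d2 (f : T) : T := ![f 0, f 0 + f 1, f 0 + 2 * f 1 + f 2, f 3]

theorem dot_h (f a : T) : dh f ⬝ᵥ a = f ⬝ᵥ gh a := by
  simp [dotProduct, Fin.sum_univ_four, gh, dh]; ring
theorem dot_d (f a : T) : dd f ⬝ᵥ a = f ⬝ᵥ gd a := by
  simp [dotProduct, Fin.sum_univ_four, gd, dd]; ring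
theorem dot_w (f a : T) : dw f ⬝ᵥ a = f ⬝ᵥ gw a := by
  simp [dotProduct, Fin.sum_univ_four, gw, dw]; ring
theorem dot_1 (f a : T) : d1 f ⬝ᵥ a = f ⬝ᵥ g1 a := by
  simp [dotProduct, Fin.sum_univ_four, g1, d1]; ring
theorem dot_2 (f a : T) : d2 f ⬝ᵥ a = f ⬝ᵥ g2 a := by
  simp [dotProduct, Fin.sum_univ_four, g2, d2]; ring

/-- eight words -/
def ws : Fin 8 → T → T :=
  ![id, dh, dh ∘ dh, dh ∘ dh ∘ dh, dw ∘ dh ∘ dw, d1 ∘ dw ∘ dd, d2 ∘ d2 ∘ dd, d1 ∘ dw ∘ dd ∘ dh]

theorem ws_sep : ∀ f : T, f ≠ 0 → ∃ i0 : Fin 8, ∀ i : Fin 8, i ≠ i0 → ∀ j : Fin 8, j ≠ i0 → i ≠ j →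
    ws i f ≠ ws j f ∧ ws i f ≠ -ws j f := by
  decide +kernel

/-! ### The action -/

section act

variable {S V : Type*} [Group S] [AddCommGroup V] [DistribMulAction S V]

/-- `3⁴` as a homomorphism -/
def tHom (U : UData S) : P →* S where
  toFun p := U.t p.toAdd
  map_one' := by
    have h := U.t_add 0 0
    rw [add_zero] at h
    exact left_eq_mul.1 h
  map_mul' a b := U.t_add _ _

/-- `3⁴` acts on `V` -/
@[reducible] def act (U : UData S) : DistribMulAction P V := DistribMulAction.compHom V (tHom U)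

/-- the weight functionals are permuted by the elements of `S` normalising `3⁴` -/
theorem comp_step (U : UData S) {y : S} {g : T → T} (hg : ∀ a b, g (a + b) = g a + g b)
    (hy : ∀ a, y * U.t a * y⁻¹ = U.t (g a)) {f f' : T} (hd : ∀ a, f' ⬝ᵥ a = f ⬝ᵥ g a) :
    letI := act (V := V) U
    Comp V (kr f) ≠ ⊥ → Comp V (kr f') ≠ ⊥ := by
  let _ := act (V := V) U
  intro h h'
  apply h
  rw [AddSubgroup.eq_bot_iff_forall] at h' ⊢
  intro v hv
  have hs : ∀ a : T, U.t a * y⁻¹ = y⁻¹ * U.t (g a) := by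
    intro a
    rw [← hy]; group
  have hsm : ∀ p : P, p • (y⁻¹ • v) = y⁻¹ • ((Multiplicative.ofAdd (g p.toAdd)) • v) := by
    intro p
    show U.t p.toAdd • y⁻¹ • v = y⁻¹ • U.t (g p.toAdd) • v
    rw [smul_smul, smul_smul, hs]
  have h1 : y⁻¹ • v ∈ Comp V (kr f') := by
    refine ⟨fun p hp => ?_, fun p hp => ?_⟩
    · rw [hsm, hv.1]
      rw [mem_kr] at hp ⊢
      rw [toAdd_ofAdd, ← hd]
      exact hp
    · rw [hsm, hsm, ← smul_add, ← smul_add, toAdd_mul, hg, ofAdd_add, hv.2, smul_zero]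
      intro h2
      apply hp
      rw [mem_kr] at h2 ⊢
      rw [hd]
      exact h2
  exact (smul_eq_zero_iff_eq y⁻¹).1 (h' _ h1)

theorem four_le_card {P : Type*} [CommGroup P] [DistribMulAction P V] [Finite V] (hV : ∀ v : V, v + v = 0)
    (h3 : ∀ p : P, p ^ 3 = 1) {W : Subgroup P} (hW : W.index = 3) (hW0 : Comp V W ≠ ⊥) :
    4 ≤ Nat.card (Comp V W) := by
  obtain ⟨v, hv, hv0⟩ : ∃ v ∈ Comp V W, v ≠ 0 := by
    by_contra h
    push Not at h
    exact hW0 ((AddSubgroup.eq_bot_iff_forall _).2 h)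
  obtain ⟨b, hb⟩ : ∃ b : P, b ∉ W := by
    by_contra h
    push Not at h
    have : W = ⊤ := (Subgroup.eq_top_iff' W).2 h
    rw [this, Subgroup.index_top] at hW
    norm_num at hW
  have h3' : b * b * b = 1 := by have := h3 b; rwa [pow_succ, pow_two] at this
  have hst : ∀ p : P, p • v ∈ Comp V W := by
    intro p
    refine ⟨fun w hw => ?_, fun q hq => ?_⟩
    · rw [smul_smul, mul_comm, mul_smul, hv.1 w hw]
    · have : p • v + q • p • v + (q * q) • p • v = p • (v + q • v + (q * q) • v) := by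
        simp only [smul_add, smul_smul]
        rw [mul_comm q p, mul_comm (q * q) p]
      rw [this, hv.2 q hq, smul_zero]
  have hne : ∀ p : P, p • v ≠ 0 := fun p h => hv0 ((smul_eq_zero_iff_eq p).1 h)
  have h0 := hv.2 b hb
  have hb1 : b • v ≠ v := by
    intro h
    rw [mul_smul, h, h, hV, zero_add] at h0
    exact hv0 h0
  have hb2 : (b * b) • v ≠ v := by
    intro h
    apply hb1
    have : b • ((b * b) • v) = b • v := by rw [h]
    rw [smul_smul, ← mul_assoc, h3', one_smul] at this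
    exact this.symm
  have hb3 : (b * b) • v ≠ b • v := by
    intro h
    rw [mul_smul] at h
    exact hb1 (MulAction.injective b h)
  let f : Fin 4 → Comp V W := ![0, ⟨v, hv⟩, ⟨b • v, hst b⟩, ⟨(b * b) • v, hst _⟩]
  have hinj : Function.Injective f := by
    have e0 : (f 0 : V) = 0 := rfl
    have e1 : (f 1 : V) = v := rfl
    have e2 : (f 2 : V) = b • v := rfl
    have e3 : (f 3 : V) = (b * b) • v := rfl
    intro i j hij
    have hij' : (f i : V) = f j := congrArg Subtype.val hij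
    fin_cases i <;> fin_cases j <;> first | rfl | exfalso
    · exact hv0 (e1.symm.trans (hij'.symm.trans e0))
    · exact hne b (e2.symm.trans (hij'.symm.trans e0))
    · exact hne _ (e3.symm.trans (hij'.symm.trans e0))
    · exact hv0 (e1.symm.trans (hij'.trans e0))
    · exact hb1 (e2.symm.trans (hij'.symm.trans e1))
    · exact hb2 (e3.symm.trans (hij'.symm.trans e1))
    · exact hne b (e2.symm.trans (hij'.trans e0))
    · exact hb1 (e2.symm.trans (hij'.trans e1))
    · exact hb3 (e3.symm.trans (hij'.symm.trans e2))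
    · exact hne _ (e3.symm.trans (hij'.trans e0))
    · exact hb2 (e3.symm.trans (hij'.trans e1))
    · exact hb3 (e3.symm.trans (hij'.trans e2))
  have := Nat.card_le_card_of_injective f hinj
  rwa [Nat.card_eq_fintype_card, Fintype.card_fin] at this

theorem pow_le_card {P : Type*} [CommGroup P] [Finite P] [DistribMulAction P V] [Finite V] (hV : ∀ v : V, v + v = 0)
    (h3 : ∀ p : P, p ^ 3 = 1) {ι : Type*} [Fintype ι] (W : ι → Subgroup P) (hW : ∀ i, (W i).index = 3)
    (hW0 : ∀ i, Comp V (W i) ≠ ⊥) (hinj : Function.Injective W) : 4 ^ Fintype.card ι ≤ Nat.card V := by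
  have : Fintype P := Fintype.ofFinite _
  have hin : Function.Injective (fun u : (i : ι) → Comp V (W i) => ∑ i, (u i : V)) := by
    intro u v huv
    have huv' : ∑ i, (u i : V) = ∑ i, (v i : V) := huv
    have h1 : ∑ i, ((u i : V) - v i) = 0 := by
      rw [Finset.sum_sub_distrib, huv', sub_self]
    funext i
    apply Subtype.ext
    have := eq_zero_of_sum h3 hV W hW hinj (fun i => (u i : V) - v i)
      (fun i => (Comp V (W i)).sub_mem (u i).2 (v i).2) h1 i
    exact sub_eq_zero.1 this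
  have h1 := Nat.card_le_card_of_injective _ hin
  rw [Nat.card_pi] at h1
  refine le_trans ?_ h1
  rw [← Finset.card_univ, ← Finset.prod_const]
  exact Finset.prod_le_prod' fun i _ => four_le_card hV h3 (hW i) (hW0 i)

theorem gh_add (a b : T) : gh (a + b) = gh a + gh b := Cfsg.Agent.R08.FrameAData.gh_add a b

/-- **`PSU(4, 3)` does not act faithfully on `2^12`** -/
theorem false_of_uData [Finite V] (U : UData S) (hV : ∀ v : V, v + v = 0)
    (hf : ∀ g : S, (∀ v : V, g • v = v) → g = 1) (hc : Nat.card V ≤ 4096) : False := by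
  let _ := act (V := V) U
  have hsm : ∀ (p : P) (v : V), p • v = U.t p.toAdd • v := fun _ _ => rfl
  -- there is a weight
  obtain ⟨f, hf0, hfc⟩ : ∃ f : T, f ≠ 0 ∧ Comp V (kr f) ≠ ⊥ := by
    by_contra hno
    push Not at hno
    have h1 : Fix P V = ⊤ := by
      refine eq_top_of_comp cube hV (Fix P V) le_rfl fun W hW => ?_
      obtain ⟨f, hf0, rfl⟩ := exists_kr hW
      rw [hno f hf0]
      exact bot_le
    have h2 := U.inj (Pi.single 0 1) (hf _ fun v => by
      have h3 : v ∈ Fix P V := by rw [h1]; trivial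
      exact h3 (Multiplicative.ofAdd (Pi.single 0 1)))
    have h3 := congrFun h2 0
    rw [Pi.single_eq_same] at h3
    exact absurd h3 (by decide)
  -- the words
  have sh : ∀ f : T, f ≠ 0 ∧ Comp V (kr f) ≠ ⊥ → dh f ≠ 0 ∧ Comp V (kr (dh f)) ≠ ⊥ := by
    intro f h
    refine ⟨?_, comp_step U gh_add U.ch (dot_h f) h.2⟩
    have : ∀ f : T, f ≠ 0 → dh f ≠ 0 := by decide +kernel
    exact this f h.1
  have sd : ∀ f : T, f ≠ 0 ∧ Comp V (kr f) ≠ ⊥ → dd f ≠ 0 ∧ Comp V (kr (dd f)) ≠ ⊥ := by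
    intro f h
    refine ⟨?_, comp_step U gd_add U.cd (dot_d f) h.2⟩
    have : ∀ f : T, f ≠ 0 → dd f ≠ 0 := by decide +kernel
    exact this f h.1
  have sw : ∀ f : T, f ≠ 0 ∧ Comp V (kr f) ≠ ⊥ → dw f ≠ 0 ∧ Comp V (kr (dw f)) ≠ ⊥ := by
    intro f h
    refine ⟨?_, comp_step U gw_add U.cw (dot_w f) h.2⟩
    have : ∀ f : T, f ≠ 0 → dw f ≠ 0 := by decide +kernel
    exact this f h.1
  have s1 : ∀ f : T, f ≠ 0 ∧ Comp V (kr f) ≠ ⊥ → d1 f ≠ 0 ∧ Comp V (kr (d1 f)) ≠ ⊥ := by
    intro f h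
    refine ⟨?_, comp_step U g1_add U.c1 (dot_1 f) h.2⟩
    have : ∀ f : T, f ≠ 0 → d1 f ≠ 0 := by decide +kernel
    exact this f h.1
  have s2 : ∀ f : T, f ≠ 0 ∧ Comp V (kr f) ≠ ⊥ → d2 f ≠ 0 ∧ Comp V (kr (d2 f)) ≠ ⊥ := by
    intro f h
    refine ⟨?_, comp_step U g2_add U.c2 (dot_2 f) h.2⟩
    have : ∀ f : T, f ≠ 0 → d2 f ≠ 0 := by decide +kernel
    exact this f h.1
  have hws : ∀ i : Fin 8, ws i f ≠ 0 ∧ Comp V (kr (ws i f)) ≠ ⊥ := by
    have h0 : f ≠ 0 ∧ Comp V (kr f) ≠ ⊥ := ⟨hf0, hfc⟩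
    intro i
    fin_cases i
    · exact h0
    · exact sh _ h0
    · exact sh _ (sh _ h0)
    · exact sh _ (sh _ (sh _ h0))
    · exact sw _ (sh _ (sw _ h0))
    · exact s1 _ (sw _ (sd _ h0))
    · exact s2 _ (s2 _ (sd _ h0))
    · exact s1 _ (sw _ (sd _ (sh _ h0)))
  obtain ⟨i0, hi0⟩ := ws_sep f hf0
  have h7 := pow_le_card (V := V) hV cube (fun i : {i : Fin 8 // i ≠ i0} => kr (ws i.1 f))
    (fun i => index_kr (hws i.1).1) (fun i => (hws i.1).2) (by
      intro i j hij
      by_contra hne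
      have hne' : i.1 ≠ j.1 := fun h => hne (Subtype.ext h)
      obtain ⟨h1, h2⟩ := hi0 i.1 i.2 j.1 j.2 hne'
      rcases eq_or_neg (hws j.1).1 (hws i.1).1 (le_of_eq (show kr (ws i.1 f) = kr (ws j.1 f) from hij).symm) with h | h
      · exact h1 h
      · exact h2 h)
  have h8 : Fintype.card {i : Fin 8 // i ≠ i0} = 7 := by
    rw [Fintype.card_subtype_compl, Fintype.card_fin, Fintype.card_subtype_eq]
  rw [h8] at h7
  have : (4 : ℕ) ^ 7 ≤ 4096 := h7.trans hc
  norm_num at this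

end act

end Cfsg.Agent.Omega.EH3.UFour.NoTriv

end

end

-- merged: Cfsg.Agent.Mrg.Omega.EH3.UFour.Row
section

/-!
# EH3: the row `U₄(3)` in `G` (helper586)

In the situation [2d] with `w = 6` the quasisimple normal subgroup `L` of `H` is not of type `U₄(3)`:

* `C_H(L) = 1` is impossible (`NoTriv`: `PSU(4,3)` does not act faithfully on `2^12`);
* `|C_H(L)| = 3`: `C_G(z)` has the `3·U₄(3)`-frame `R08.FrameData`, and `Kill.false_of_pair` applies.

`rowG` : the socket `u43` of `EH3.Main.Inputs`.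
-/

set_option autoImplicit false

namespace Cfsg.Agent.Omega.EH3.UFour.Row

open Cfsg Subgroup Cfsg.Agent.Co2Type.Quad Cfsg.Agent.R08.Frame Cfsg.Agent.R08.FrameAData
open Cfsg.Agent.SporRec.GF4 Cfsg.Agent.R08.ModFrame Cfsg.Agent.SporadicStructure.FieldNine
open Cfsg.Agent.Omega.Frame (Ctx Cls All)
open Cfsg.Agent.Omega.EH3.Main

universe u

/-! ### Preimages -/

section abs

variable {C H : Type*} [Group C] [Group H]

theorem card_comap [Finite C] {f : C →* H} (hf : Function.Surjective f) (K : Subgroup H) :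
    Nat.card (K.comap f) = Nat.card K * Nat.card f.ker := by
  have hH : Finite H := Finite.of_surjective f hf
  have h2 : (K.comap f).index = K.index := index_comap_of_surjective _ hf
  have h3 := (K.comap f).card_mul_index
  have h4 := K.card_mul_index
  have h5 := f.ker.card_mul_index
  have h6 : f.ker.index = Nat.card H := by
    rw [index_ker, MonoidHom.range_eq_top.2 hf, card_top]
  rw [h6, ← h4, ← h3, h2] at h5
  have h7 : 0 < K.index := Nat.pos_of_ne_zero index_ne_zero_of_finite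
  apply Nat.eq_of_mul_eq_mul_right h7
  rw [← h5]
  ring

theorem cent_subgroupOf (L : Subgroup H) : (centralizer (L : Set H)).subgroupOf L = center L := by
  ext x
  rw [mem_subgroupOf, mem_centralizer_iff, mem_center_iff]
  constructor
  · intro h l
    exact Subtype.ext (h l l.2)
  · intro h l hl
    exact congrArg Subtype.val (h ⟨l, hl⟩)

/-- `M / N ≅ L / Z(L)` for the preimages `N` of `C_H(L)` and `M` of `L C_H(L)` -/
theorem exists_equiv {f : C →* H} (hf : Function.Surjective f) (L : Subgroup H) [hL : L.Normal]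
    [((centralizer (L : Set H)).comap f).Normal] :
    Nonempty (↥((L ⊔ centralizer (L : Set H)).comap f) ⧸
      ((centralizer (L : Set H)).comap f).subgroupOf ((L ⊔ centralizer (L : Set H)).comap f) ≃* L ⧸ center L) := by
  have hCn : (centralizer (L : Set H)).Normal := inferInstance
  let K := centralizer (L : Set H)
  let g : ↥((L ⊔ K).comap f) →* ↥(L ⊔ K) := f.subgroupComap (L ⊔ K)
  have hg : Function.Surjective g := by
    intro l
    obtain ⟨c, hc⟩ := hf l
    exact ⟨⟨c, by rw [mem_comap, hc]; exact l.2⟩, Subtype.ext hc⟩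
  let g' : ↥((L ⊔ K).comap f) →* ↥(L ⊔ K) ⧸ K.subgroupOf (L ⊔ K) := (QuotientGroup.mk' _).comp g
  have hg' : Function.Surjective g' := (QuotientGroup.mk'_surjective _).comp hg
  have hker : g'.ker = (K.comap f).subgroupOf ((L ⊔ K).comap f) := by
    ext c
    rw [MonoidHom.mem_ker, mem_subgroupOf]
    show (QuotientGroup.mk' _) (g c) = 1 ↔ _
    rw [QuotientGroup.mk'_apply, QuotientGroup.eq_one_iff, mem_subgroupOf]
    exact Iff.rfl
  refine ⟨(QuotientGroup.quotientMulEquivOfEq hker.symm).trans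
    ((QuotientGroup.quotientKerEquivOfSurjective g' hg').trans
      ((QuotientGroup.quotientInfEquivProdNormalQuotient L K).symm.trans
        (QuotientGroup.quotientMulEquivOfEq (cent_subgroupOf L))))⟩

end abs

/-! ### Coordinates -/

theorem frameData {G : Type*} [Group G] [Finite G] {Q : Subgroup G} {z : G} (h : Large Q z)
    {Q₀ N M : Subgroup (centralizer ({z} : Set G))} [Q₀.Normal] [N.Normal] [M.Normal]
    (hQ₀ : Q₀.map (centralizer ({z} : Set G)).subtype = Q) (hcard : Nat.card Q = 2 ^ 13)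
    (hQN : Q₀ ≤ N) (hNM : N ≤ M) (hN : Nat.card N = 3 * Nat.card Q) (K : Type) [Field K] [Fintype K]
    (hK : Fintype.card K = 9) (e : M ⧸ N.subgroupOf M ≃* Cfsg.PSU 4 K 3)
    (F : Type) [Field F] [Fintype F] (hF : Fintype.card F = 2 ^ 2) : Nonempty (FrameData h N M F) := by
  subst hQ₀
  have hQ' : Nat.card (Q₀.map (centralizer ({z} : Set G)).subtype) = Nat.card Q₀ :=
    (Nat.card_congr (Q₀.equivMapOfInjective _ (subtype_injective _)).toEquiv).symm
  rw [hQ'] at hcard hN
  exact Cfsg.Agent.R08.FrameA.frameData_of_large h hcard hQN hNM hN K hK e F hF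

/-! ### The row -/

theorem card_V {G : Type*} [Group G] [Finite G] {Q : Subgroup G} {z : G} (h : Large Q z) (hcard : Nat.card Q = 2 ^ 13) : Nat.card h.V = 4096 := by
  have h1 := h.card_eq
  rw [hcard] at h1
  omega

theorem card_F4 : Fintype.card F4 = 2 ^ 2 := by decide

/-- centralisers of involutions have characteristic 2 -/
theorem char2 {G : Type*} [Group G] (hG : IsCharacteristicTwoType G) : Kill.Char2 G := fun x hx hx1 =>
  Cfsg.Agent.MinSimple.Basic.char2_centralizer hG (by rw [pow_two]; exact hx) hx1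

/-- **`C_H(L) ≠ 1`** -/
theorem not_one {G : Type u} [Group G] [Finite G] {Q A : Subgroup G} {z a : G} {w : ℕ} (S : Sit Q A z a w)
    (hQ : Nat.card Q = 2 ^ 13) {L : Subgroup S.pair.H} (hK : KFacts.IsUFourThree (L ⧸ center L))
    (hc : Nat.card (centralizer (L : Set S.pair.H)) = 1) : False := by
  obtain ⟨K, _, _, hKc, ⟨e⟩⟩ := hK
  obtain ⟨ε⟩ := Cfsg.Agent.SporadicStructure.PsuMatch.psu_iso_of_card (F := K) (K := K9)
    (by rw [hKc, K9.card_K9']; norm_num) 4 3
  have hz : center L = ⊥ := by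
    rw [← cent_subgroupOf, card_eq_one.1 hc, bot_subgroupOf]
  let e1 : Cfsg.PSU 4 K9 3 ≃* L := (ε.symm.trans e.symm).trans
    ((QuotientGroup.quotientMulEquivOfEq hz).trans QuotientGroup.quotientBot)
  let φ : Cfsg.PSU 4 K9 3 →* (S.pair.lz.V ≃ₗ[ZMod 2] S.pair.lz.V) :=
    S.ρ.comp (L.subtype.comp e1.toMonoidHom)
  have hφ : Function.Injective φ :=
    (S.pair.H.subtype_injective.comp L.subtype_injective).comp e1.injective
  let _ : DistribMulAction (Cfsg.PSU 4 K9 3) S.pair.lz.V := DistribMulAction.compHom _ φ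
  refine NoTriv.false_of_uData (uData : UData (Cfsg.PSU 4 K9 3)) S.pair.lz.add_self (fun g hg => ?_)
    (card_V S.pair.lz hQ).le
  apply hφ
  rw [map_one]
  ext v
  exact hg v

/-- **no `U₄(3)` in the situation [2d]** -/
theorem false_of_sit {G : Type u} [Group G] [Finite G] {Q A : Subgroup G} {z a : G} (S : Sit Q A z a 6)
    {L : Subgroup S.pair.H} (hLn : L.Normal) (hLq : IsQuasisimple L)
    (h4 : S.X ⊓ centralizer (L : Set S.pair.H) = ⊥) (hK : KFacts.IsUFourThree (L ⧸ center L)) : False := by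
  have hQ : Nat.card Q = 2 ^ 13 := by rw [S.card_Q]
  rcases SitIrr.card_cent S hLn hLq h4 with hc | hc
  · exact not_one S hQ hK hc
  obtain ⟨K, _, _, hKc, ⟨e⟩⟩ := hK
  have hQn : (Q.subgroupOf (centralizer ({z} : Set G))).Normal := Cfsg.Agent.LargeExtra.Nine.ToCent.normal S.pair.lz
  let f : centralizer ({z} : Set G) →* S.pair.H := S.pair.lz.act.rangeRestrict
  have hf : Function.Surjective f := S.pair.lz.act.rangeRestrict_surjective
  have hker : f.ker = Q.subgroupOf (centralizer ({z} : Set G)) := by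
    rw [← Cfsg.Agent.LargeExtra.Nine.ToCent.ker_act S.pair.lz]
    exact S.pair.lz.act.ker_rangeRestrict
  have hCn : (centralizer (L : Set S.pair.H)).Normal := inferInstance
  have hNn : ((centralizer (L : Set S.pair.H)).comap f).Normal := inferInstance
  have hMn : ((L ⊔ centralizer (L : Set S.pair.H)).comap f).Normal := inferInstance
  obtain ⟨e'⟩ := exists_equiv hf L
  have hQN : Q.subgroupOf (centralizer ({z} : Set G)) ≤ (centralizer (L : Set S.pair.H)).comap f := by
    rw [← hker]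
    intro c hc
    rw [mem_comap, MonoidHom.mem_ker.1 hc]
    exact one_mem _
  have hNM : (centralizer (L : Set S.pair.H)).comap f ≤ (L ⊔ centralizer (L : Set S.pair.H)).comap f :=
    comap_mono le_sup_right
  have hN : Nat.card ((centralizer (L : Set S.pair.H)).comap f) = 3 * Nat.card Q := by
    rw [card_comap hf, hc, hker, Cfsg.Agent.LargeExtra.Nine.ToCent.card_subgroupOf S.pair.lz]
  obtain ⟨fd0⟩ := frameData S.pair.lz (Q₀ := Q.subgroupOf (centralizer ({z} : Set G)))
    (by rw [subgroupOf_map_subtype]; exact inf_eq_left.2 (Cfsg.Agent.LargeExtra.Nine.ToCent.le_cent S.pair.lz))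
    hQ hQN hNM hN K hKc (e'.trans e) F4 card_F4
  obtain ⟨fd, hs⟩ := exists_std fd0 fun c hc => hNM (hQN (mem_subgroupOf.2 hc))
  exact Kill.false_of_pair S.pair fd hs hNn hMn (char2 S.ctx.char2) (by rw [S.card_D]; norm_num)

/-- **The row `U₄(3)`** -/
theorem rowG {K : Cls.{u}} : RowG K (fun X _ w => KFacts.IsUFourThree X ∧ w = 6) := by
  rintro G _ _ _ Q A z a w S L hLn hLq _ h4 ⟨hK, rfl⟩
  exact (false_of_sit S hLn hLq h4 hK).elim

end Cfsg.Agent.Omega.EH3.UFour.Row

end
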